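import Mathlib
import Groth.Prelude.Def_EtGlue

/-!
# Glueing pairs: torsion in base changes
-/

set_option autoImplicit false
set_option linter.unusedSectionVars false
universe u

open TensorProduct

noncomputable section

namespace Groth.Agent.GluePair

variable {R R' : Type u} [CommRing R] [CommRing R'] [Algebra R R'] {f : R}

/-- `m ↦ 1 ⊗ m` is injective on the `f`-power torsion. -/
def TInj (R' : Type u) [CommRing R'] [Algebra R R'] (f : R) (M : Type u) [AddCommGroup M]
    [Module R M] : Prop :=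
  ∀ (m : M) (n : ℕ), f ^ n • m = 0 → (1 : R') ⊗ₜ[R] m = 0 → m = 0

section Quot

variable (hq : EtGlue.QuotPowBijective R R' f)
include hq

lemma exists_eq_algebraMap_add (n : ℕ) (x : R') :
    ∃ (r : R) (y : R'), x = algebraMap R R' r + algebraMap R R' (f ^ n) * y := by
  rcases Nat.eq_zero_or_pos n with rfl | hn
  · exact ⟨0, x, by simp⟩
  obtain ⟨r', hr⟩ := (hq n hn).2 (Ideal.Quotient.mk _ x)
  obtain ⟨r, rfl⟩ := Ideal.Quotient.mk_surjective r'
  rw [Ideal.quotientMap_mk, eq_comm, Ideal.Quotient.mk_eq_mk_iff_sub_mem, Ideal.map_span,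
    Set.image_singleton, Ideal.mem_span_singleton'] at hr
  obtain ⟨y, hy⟩ := hr
  exact ⟨r, y, by rw [mul_comm, hy]; ring⟩

lemma dvd_of_algebraMap_eq (n : ℕ) {r : R} {y : R'}
    (h : algebraMap R R' r = algebraMap R R' (f ^ n) * y) : f ^ n ∣ r := by
  rcases Nat.eq_zero_or_pos n with rfl | hn
  · simp
  have h0 : Ideal.Quotient.mk (Ideal.span {f ^ n}) r = 0 := by
    apply (hq n hn).1
    rw [Ideal.quotientMap_mk, map_zero, Ideal.Quotient.eq_zero_iff_mem, Ideal.map_span,
      Set.image_singleton, h]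
    exact Ideal.mul_mem_right _ _ (Ideal.mem_span_singleton_self _)
  rwa [Ideal.Quotient.eq_zero_iff_mem, Ideal.mem_span_singleton] at h0

/-- Reduction modulo `f ^ n` of the scalars. -/
def red (n : ℕ) : R' →ₗ[R] R ⧸ Ideal.span {f ^ n} where
  toFun x := Ideal.Quotient.mk _ (exists_eq_algebraMap_add hq n x).choose
  map_add' x y := by
    obtain ⟨a, ha⟩ := (exists_eq_algebraMap_add hq n x).choose_spec
    obtain ⟨b, hb⟩ := (exists_eq_algebraMap_add hq n y).choose_spec
    obtain ⟨c, hc⟩ := (exists_eq_algebraMap_add hq n (x + y)).choose_spec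
    rw [← map_add, Ideal.Quotient.mk_eq_mk_iff_sub_mem, Ideal.mem_span_singleton]
    refine dvd_of_algebraMap_eq hq n (y := a + b - c) ?_
    rw [map_sub, map_add]
    linear_combination -hc + ha + hb
  map_smul' r x := by
    obtain ⟨a, ha⟩ := (exists_eq_algebraMap_add hq n x).choose_spec
    obtain ⟨c, hc⟩ := (exists_eq_algebraMap_add hq n (r • x)).choose_spec
    rw [RingHom.id_apply, Algebra.smul_def r (Ideal.Quotient.mk _ _), Ideal.Quotient.algebraMap_eq,
      ← map_mul, Ideal.Quotient.mk_eq_mk_iff_sub_mem, Ideal.mem_span_singleton]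
    refine dvd_of_algebraMap_eq hq n (y := algebraMap R R' r * a - c) ?_
    rw [map_sub, map_mul]
    rw [Algebra.smul_def] at hc ⊢
    linear_combination algebraMap R R' r * ha - hc

lemma red_one (n : ℕ) : red hq n 1 = Ideal.Quotient.mk _ (1 : R) := by
  obtain ⟨a, ha⟩ := (exists_eq_algebraMap_add hq n 1).choose_spec
  change Ideal.Quotient.mk _ _ = _
  rw [Ideal.Quotient.mk_eq_mk_iff_sub_mem, Ideal.mem_span_singleton]
  refine dvd_of_algebraMap_eq hq n (y := -a) ?_
  rw [map_sub, map_one]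
  linear_combination -ha

variable {M : Type u} [AddCommGroup M] [Module R M]

lemma exists_eq_add (n : ℕ) (x : R' ⊗[R] M) :
    ∃ (m : M) (y : R' ⊗[R] M), x = (1 : R') ⊗ₜ[R] m + f ^ n • y := by
  induction x using TensorProduct.induction_on with
  | zero => exact ⟨0, 0, by simp⟩
  | tmul a m =>
    obtain ⟨r, y, hy⟩ := exists_eq_algebraMap_add hq n a
    refine ⟨r • m, y ⊗ₜ m, ?_⟩
    rw [hy, add_tmul, TensorProduct.tmul_smul, TensorProduct.smul_tmul', TensorProduct.smul_tmul',
      Algebra.smul_def, Algebra.smul_def, mul_one]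
  | add x y hx hy =>
    obtain ⟨a, x', rfl⟩ := hx
    obtain ⟨b, y', rfl⟩ := hy
    exact ⟨a + b, x' + y', by rw [tmul_add, smul_add]; abel⟩

lemma exists_smul_of_tmul_eq (n : ℕ) {m : M} {y : R' ⊗[R] M}
    (h : (1 : R') ⊗ₜ[R] m = f ^ n • y) : ∃ m' : M, m = f ^ n • m' := by
  let χ : R' ⊗[R] M →ₗ[R] M ⧸ (Ideal.span {f ^ n} • ⊤ : Submodule R M) :=
    (quotTensorEquivQuotSMul M (Ideal.span {f ^ n})).toLinearMap ∘ₗ (red hq n).rTensor M
  have h1 : χ ((1 : R') ⊗ₜ m) = Submodule.Quotient.mk m := by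
    change quotTensorEquivQuotSMul M _ (red hq n 1 ⊗ₜ m) = _
    rw [red_one, quotTensorEquivQuotSMul_mk_tmul, one_smul]
  obtain ⟨z, hz⟩ := Submodule.Quotient.mk_surjective _ (χ y)
  rw [h, map_smul, ← hz, ← Submodule.Quotient.mk_smul, eq_comm, Submodule.Quotient.eq] at h1
  rw [Submodule.ideal_span_singleton_smul] at h1
  obtain ⟨w, -, hw⟩ := h1
  refine ⟨z + w, ?_⟩
  change f ^ n • w = m - f ^ n • z at hw
  rw [smul_add, hw]
  abel

/-- A scalar of the base change acting on a module of `f`-power torsion. -/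
def act (hM : ∀ m : M, ∃ n : ℕ, f ^ n • m = 0) (x : R') (m : M) : M :=
  (exists_eq_algebraMap_add hq (hM m).choose x).choose • m

lemma act_eq (hM : ∀ m : M, ∃ n : ℕ, f ^ n • m = 0) {x : R'} {m : M} {n : ℕ} {r : R} {y : R'}
    (hn : f ^ n • m = 0) (hx : x = algebraMap R R' r + algebraMap R R' (f ^ n) * y) :
    act hq hM x m = r • m := by
  have hn₀ := (hM m).choose_spec
  set n₀ := (hM m).choose
  obtain ⟨y₀, hy₀⟩ := (exists_eq_algebraMap_add hq n₀ x).choose_spec
  set r₀ := (exists_eq_algebraMap_add hq n₀ x).choose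
  change r₀ • m = r • m
  have hmin : f ^ min n₀ n • m = 0 := by
    rcases min_choice n₀ n with h | h <;> rw [h] <;> assumption
  obtain ⟨c, hc⟩ : f ^ min n₀ n ∣ r₀ - r := by
    obtain ⟨a, ha⟩ := pow_dvd_pow f (min_le_left n₀ n)
    obtain ⟨b, hb⟩ := pow_dvd_pow f (min_le_right n₀ n)
    refine dvd_of_algebraMap_eq hq _ (y := algebraMap R R' b * y - algebraMap R R' a * y₀) ?_
    rw [ha, map_mul] at hy₀
    rw [hb, map_mul] at hx
    rw [map_sub]
    linear_combination hx - hy₀
  rw [← sub_eq_zero, ← sub_smul, hc, mul_comm, mul_smul, hmin, smul_zero]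

/-- A module killed by powers of `f` does not change under base change. -/
lemma bijective_mk_of_torsion (hM : ∀ m : M, ∃ n : ℕ, f ^ n • m = 0) :
    Function.Bijective (TensorProduct.mk R R' M 1) := by
  constructor
  · let Θ : R' →ₗ[R] M →ₗ[R] M := LinearMap.mk₂ R (act hq hM)
      (fun x x' m => by
        obtain ⟨n, hn⟩ := hM m
        obtain ⟨r, y, hy⟩ := exists_eq_algebraMap_add hq n x
        obtain ⟨r', y', hy'⟩ := exists_eq_algebraMap_add hq n x'
        rw [act_eq hq hM hn hy, act_eq hq hM hn hy', ← add_smul]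
        exact act_eq hq hM hn (y := y + y') (by rw [hy, hy', map_add]; ring))
      (fun c x m => by
        obtain ⟨n, hn⟩ := hM m
        obtain ⟨r, y, hy⟩ := exists_eq_algebraMap_add hq n x
        rw [act_eq hq hM hn hy, smul_smul]
        exact act_eq hq hM hn (y := algebraMap R R' c * y)
          (by rw [Algebra.smul_def, hy, map_mul]; ring))
      (fun x m m' => by
        obtain ⟨n, hn⟩ := hM m
        obtain ⟨n', hn'⟩ := hM m'
        have h1 : f ^ (n + n') • m = 0 := by rw [pow_add, mul_comm, mul_smul, hn, smul_zero]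
        have h2 : f ^ (n + n') • m' = 0 := by rw [pow_add, mul_smul, hn', smul_zero]
        obtain ⟨r, y, hy⟩ := exists_eq_algebraMap_add hq (n + n') x
        rw [act_eq hq hM h1 hy, act_eq hq hM h2 hy, ← smul_add]
        exact act_eq hq hM (by rw [smul_add, h1, h2, add_zero]) hy)
      (fun c x m => by
        obtain ⟨n, hn⟩ := hM m
        obtain ⟨r, y, hy⟩ := exists_eq_algebraMap_add hq n x
        rw [act_eq hq hM hn hy, smul_comm c r m]
        exact act_eq hq hM (by rw [smul_comm, hn, smul_zero]) hy)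
    refine Function.LeftInverse.injective (g := TensorProduct.lift Θ) fun m => ?_
    obtain ⟨n, hn⟩ := hM m
    rw [TensorProduct.mk_apply, TensorProduct.lift.tmul]
    exact (act_eq hq hM hn (r := (1 : R)) (y := (0 : R')) (by simp)).trans (one_smul R m)
  · intro x
    induction x using TensorProduct.induction_on with
    | zero => exact ⟨0, map_zero _⟩
    | tmul a m =>
      obtain ⟨n, hn⟩ := hM m
      obtain ⟨r, y, hy⟩ := exists_eq_algebraMap_add hq n a
      refine ⟨r • m, ?_⟩
      rw [TensorProduct.mk_apply, hy, add_tmul, ← Algebra.smul_def (f ^ n) y, smul_tmul, hn,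
        tmul_zero, add_zero, TensorProduct.tmul_smul, TensorProduct.smul_tmul', Algebra.smul_def,
        mul_one]
    | add x y hx hy =>
      obtain ⟨a, rfl⟩ := hx
      obtain ⟨b, rfl⟩ := hy
      exact ⟨a + b, map_add _ _ _⟩

end Quot

end Groth.Agent.GluePair

end
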