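import Mathlib
import Groth.Agent.GluePair.Basic

/-!
# Glueable modules over a glueing pair
-/

set_option autoImplicit false
set_option linter.unusedSectionVars false
universe u

open TensorProduct

noncomputable section

namespace Groth.Agent.GluePair

variable {R R' : Type u} [CommRing R] [CommRing R'] [Algebra R R'] {f : R}
  {M N P Q : Type u} [AddCommGroup M] [Module R M] [AddCommGroup N] [Module R N]
  [AddCommGroup P] [Module R P] [AddCommGroup Q] [Module R Q]

lemma TInj.of_injective (hN : TInj R' f N) (u : M →ₗ[R] N) (hu : Function.Injective u) :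
    TInj R' f M := fun m n hn hm => hu (by
  rw [map_zero]
  refine hN (u m) n (by rw [← map_smul, hn, map_zero]) ?_
  rw [← LinearMap.lTensor_tmul R' u, hm, map_zero])

lemma TInj.finsupp (hN : TInj R' f N) (ι : Type u) : TInj R' f (ι →₀ N) := fun m n hn hm =>
  Finsupp.ext fun i => hN (m i) n (by
    rw [← Finsupp.smul_apply, hn, Finsupp.zero_apply]) (by
    change (1 : R') ⊗ₜ[R] (Finsupp.lapply (R := R) (M := N) i m) = 0
    rw [← LinearMap.lTensor_tmul, hm, map_zero])

section Pair

/-- The hypothesis of a glueing pair in the form used below. -/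
structure Pair (R' : Type u) [CommRing R'] [Algebra R R'] (f : R) : Prop where
  quot : EtGlue.QuotPowBijective R R' f
  inj : ∀ (r : R) (n : ℕ), f ^ n * r = 0 → algebraMap R R' r = 0 → r = 0
  surj : ∀ (x : R') (n : ℕ), algebraMap R R' (f ^ n) * x = 0 →
    ∃ r : R, f ^ n * r = 0 ∧ algebraMap R R' r = x

lemma algebraMap_smul' (r : R) (x : R') : r • x = algebraMap R R' r * x := Algebra.smul_def r x

variable (H : Pair R' f)
include H

lemma Pair.tInj_self : TInj R' f R := fun r n hn hr => H.inj r n hn (by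
  have := congrArg (TensorProduct.rid R R') hr
  rw [TensorProduct.rid_tmul, map_zero, Algebra.smul_def, mul_one] at this
  exact this)

lemma Pair.tInj_finsupp (ι : Type u) : TInj R' f (ι →₀ R) := H.tInj_self.finsupp ι

lemma Pair.torsion_lift_finsupp (ι : Type u) (x : R' ⊗[R] (ι →₀ R)) (n : ℕ)
    (hx : f ^ n • x = 0) : ∃ g : ι →₀ R, f ^ n • g = 0 ∧ (1 : R') ⊗ₜ[R] g = x := by
  classical
  let e := TensorProduct.finsuppScalarRight R R R' ι
  have hc : ∀ i, algebraMap R R' (f ^ n) * e x i = 0 := fun i => by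
    rw [← algebraMap_smul', ← Finsupp.smul_apply, ← map_smul, hx, map_zero, Finsupp.zero_apply]
  choose g hg₁ hg₂ using fun i => H.surj _ n (hc i)
  let g' : ι →₀ R := Finsupp.onFinset (e x).support (fun i => if e x i = 0 then 0 else g i)
    fun i hi => Finsupp.mem_support_iff.mpr fun h => hi (if_pos h)
  have hg' : ∀ i, f ^ n * g' i = 0 ∧ algebraMap R R' (g' i) = e x i := fun i => by
    simp only [g', Finsupp.onFinset_apply]
    split_ifs with h
    · exact ⟨mul_zero _, by rw [map_zero, h]⟩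
    · exact ⟨hg₁ i, hg₂ i⟩
  refine ⟨g', Finsupp.ext fun i => (hg' i).1, e.injective (Finsupp.ext fun i => ?_)⟩
  rw [TensorProduct.finsuppScalarRight_apply_tmul_apply, ← (hg' i).2, algebraMap_smul', mul_one]

/-- Torsion in a base change comes from torsion. -/
lemma Pair.exists_torsion_lift (x : R' ⊗[R] M) (n : ℕ) (hx : f ^ n • x = 0) :
    ∃ m : M, f ^ n • m = 0 ∧ (1 : R') ⊗ₜ[R] m = x := by
  let π : (M →₀ R) →ₗ[R] M := Finsupp.linearCombination R id
  have hπ : Function.Surjective π := Finsupp.linearCombination_surjective _ Function.surjective_id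
  obtain ⟨x', rfl⟩ := LinearMap.lTensor_surjective R' hπ x
  obtain ⟨w, hw⟩ := (lTensor_exact (M := LinearMap.ker π) R' (LinearMap.exact_subtype_ker_map π) hπ (f ^ n • x')).mp
    (by rw [map_smul, hx])
  obtain ⟨k, v, rfl⟩ := exists_eq_add (M := LinearMap.ker π) H.quot n w
  rw [map_add, LinearMap.lTensor_tmul, map_smul, Submodule.subtype_apply] at hw
  obtain ⟨g, hg⟩ : ∃ g, (k : M →₀ R) = f ^ n • g := by
    refine exists_smul_of_tmul_eq H.quot n (y := x' - (LinearMap.ker π).subtype.lTensor R' v) ?_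
    rw [smul_sub, ← hw, add_sub_cancel_right]
  obtain ⟨t, ht₁, ht₂⟩ := H.torsion_lift_finsupp _
    (x' - (LinearMap.ker π).subtype.lTensor R' v - (1 : R') ⊗ₜ[R] g) n (by
      rw [smul_sub, smul_sub, ← hw, ← TensorProduct.tmul_smul, ← hg]
      abel)
  refine ⟨π (g + t), ?_, ?_⟩
  · rw [← map_smul, smul_add, ht₁, ← hg, add_zero]
    exact k.2
  · rw [← LinearMap.lTensor_tmul, tmul_add, ht₂, add_sub_cancel, map_sub,
      ← LinearMap.lTensor_comp_apply, LinearMap.comp_ker_subtype, LinearMap.lTensor_zero,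
      LinearMap.zero_apply, sub_zero]

/-- A cokernel of a map to a glueable module, with torsion kernel after base change, is glueable. -/
lemma Pair.tInj_coker (u : P →ₗ[R] Q) (π : Q →ₗ[R] M) (hex : Function.Exact u π)
    (hπ : Function.Surjective π) (hQ : TInj R' f Q)
    (hker : ∀ w : R' ⊗[R] P, u.lTensor R' w = 0 → ∃ n, f ^ n • w = 0) : TInj R' f M := by
  intro m n hn hm
  obtain ⟨g, rfl⟩ := hπ m
  obtain ⟨w, hw⟩ := (lTensor_exact R' hex hπ ((1 : R') ⊗ₜ g)).mp
    (by rw [LinearMap.lTensor_tmul, hm])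
  obtain ⟨k, hk⟩ := (hex (f ^ n • g)).mp (by rw [map_smul, hn])
  obtain ⟨j, hj⟩ := hker (f ^ n • w - (1 : R') ⊗ₜ k) (by
    rw [map_sub, map_smul, hw, LinearMap.lTensor_tmul, hk, TensorProduct.tmul_smul, sub_self])
  obtain ⟨t, ht₁, ht₂⟩ := H.exists_torsion_lift _ j hj
  have hut : u t = 0 := hQ (u t) j (by rw [← map_smul, ht₁, map_zero]) (by
    rw [← LinearMap.lTensor_tmul, ht₂, map_sub, map_smul, hw, LinearMap.lTensor_tmul, hk,
      TensorProduct.tmul_smul, sub_self])
  obtain ⟨k₂, hk₂⟩ := exists_smul_of_tmul_eq H.quot n (m := k + t) (y := w)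
    (by rw [tmul_add, ht₂, add_sub_cancel])
  obtain ⟨t₂, ht₂₁, ht₂₂⟩ := H.exists_torsion_lift (w - (1 : R') ⊗ₜ k₂) n (by
    rw [smul_sub, ← TensorProduct.tmul_smul, ← hk₂, tmul_add, ht₂, add_sub_cancel, sub_self])
  have hfin : g - u k₂ - u t₂ = 0 := hQ _ n (by
    rw [smul_sub, smul_sub, ← map_smul u, ← hk₂, map_add, hut, hk, add_zero, sub_self, zero_sub,
      ← map_smul, ht₂₁, map_zero, neg_zero]) (by
    rw [tmul_sub, tmul_sub, ← LinearMap.lTensor_tmul R' u, ← LinearMap.lTensor_tmul R' u, ht₂₂,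
      map_sub, hw, sub_sub, add_sub_cancel, sub_self])
  rw [sub_eq_zero, sub_eq_iff_eq_add] at hfin
  rw [hfin, map_add, hex.apply_apply_eq_zero, hex.apply_apply_eq_zero, add_zero]

set_option maxHeartbeats 1000000 in
/-- Base change keeps the inclusions with torsion cokernel injective: the free case. -/
lemma Pair.lTensor_subtype_injective (ι : Type u) (G : Submodule R (ι →₀ R))
    (hG : ∀ x, ∃ n : ℕ, f ^ n • x ∈ G) : Function.Injective (G.subtype.lTensor R') := by
  classical
  rw [injective_iff_map_eq_zero]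
  intro z hz
  obtain ⟨s, hs⟩ := TensorProduct.exists_finset (R := R) z
  let S := s.biUnion fun i => (i.2 : ι →₀ R).support
  choose N hN using fun i : ι => hG (Finsupp.single i 1)
  let n := S.sup N
  have hn : ∀ i ∈ S, f ^ n • Finsupp.single i (1 : R) ∈ G := fun i hi => by
    obtain ⟨c, hc⟩ := pow_dvd_pow f (Finset.le_sup (f := N) hi)
    rw [hc, mul_comm, mul_smul]
    exact G.smul_mem c (hN i)
  let h : (ι →₀ R) →ₗ[R] G := Finsupp.linearCombination R fun i =>
    if hi : i ∈ S then (⟨_, hn i hi⟩ : G) else 0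
  have hh : ∀ g : G, (g : ι →₀ R).support ⊆ S → h g = f ^ n • g := fun g hg => Subtype.ext (by
    rw [Finsupp.linearCombination_apply, Finsupp.sum, Submodule.coe_sum, Submodule.coe_smul_of_tower]
    conv_rhs => rw [← Finsupp.sum_single (g : ι →₀ R), Finsupp.sum, Finset.smul_sum]
    refine Finset.sum_congr rfl fun i hi => ?_
    rw [dif_pos (hg hi), Submodule.coe_smul, smul_smul, mul_comm, mul_smul, Finsupp.smul_single,
      smul_eq_mul, mul_one])
  have h0 : f ^ n • z = 0 := by
    have h1 := congrArg (h.lTensor R') hz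
    rw [map_zero, ← LinearMap.lTensor_comp_apply] at h1
    rw [← h1, hs, map_sum, Finset.smul_sum]
    refine Finset.sum_congr rfl fun i hi => ?_
    rw [LinearMap.lTensor_tmul, LinearMap.comp_apply, Submodule.subtype_apply,
      hh i.2 (Finset.subset_biUnion_of_mem (fun i => (i.2 : ι →₀ R).support) hi),
      TensorProduct.tmul_smul]
  obtain ⟨t, ht₁, rfl⟩ := H.exists_torsion_lift (M := G) z n h0
  rw [LinearMap.lTensor_tmul] at hz
  rw [show t = 0 from Subtype.ext (H.tInj_finsupp ι (t : ι →₀ R) n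
    (by rw [← Submodule.coe_smul, ht₁]; rfl) hz), tmul_zero]

/-- Base change keeps inclusions with `f`-power torsion cokernel injective. -/
theorem Pair.lTensor_injective (u : M →ₗ[R] N) (hu : Function.Injective u)
    (hc : ∀ x : N, ∃ n : ℕ, f ^ n • x ∈ LinearMap.range u) :
    Function.Injective (u.lTensor R') := by
  let π : (N →₀ R) →ₗ[R] N := Finsupp.linearCombination R id
  have hπ : Function.Surjective π := Finsupp.linearCombination_surjective _ Function.surjective_id
  let G := (LinearMap.range u).comap π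
  have hG := H.lTensor_subtype_injective N G fun x => by
    obtain ⟨n, hn⟩ := hc (π x)
    exact ⟨n, by rwa [Submodule.mem_comap, map_smul]⟩
  let πG : G →ₗ[R] M := (LinearEquiv.ofInjective u hu).symm.toLinearMap ∘ₗ
    (π ∘ₗ G.subtype).codRestrict (LinearMap.range u) fun x => x.2
  have hsq : u ∘ₗ πG = π ∘ₗ G.subtype := LinearMap.ext fun x =>
    congrArg Subtype.val ((LinearEquiv.ofInjective u hu).apply_symm_apply _)
  have hπG : Function.Surjective πG := fun m => by
    obtain ⟨x, hx⟩ := hπ (u m)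
    exact ⟨⟨x, ⟨m, hx.symm⟩⟩, hu ((LinearMap.congr_fun hsq _).trans hx)⟩
  let j : LinearMap.ker π →ₗ[R] G := Submodule.inclusion fun x hx => ⟨0, by
    rw [map_zero, LinearMap.mem_ker.mp hx]⟩
  rw [injective_iff_map_eq_zero]
  intro z hz
  obtain ⟨z', rfl⟩ := LinearMap.lTensor_surjective R' hπG z
  rw [← LinearMap.lTensor_comp_apply, hsq, LinearMap.lTensor_comp_apply] at hz
  obtain ⟨w, hw⟩ := (lTensor_exact (M := LinearMap.ker π) R' (LinearMap.exact_subtype_ker_map π) hπ _).mp hz
  have hjw : j.lTensor R' w = z' := hG (by rw [← LinearMap.lTensor_comp_apply]; exact hw)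
  rw [← hjw, ← LinearMap.lTensor_comp_apply, show πG ∘ₗ j = 0 from LinearMap.ext fun x => hu (by
    rw [LinearMap.zero_apply, map_zero]
    exact (LinearMap.congr_fun hsq (j x)).trans (LinearMap.mem_ker.mp x.2)), LinearMap.lTensor_zero,
    LinearMap.zero_apply]

end Pair

end Groth.Agent.GluePair

end
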