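import Mathlib
import Groth.Agent.GluePair.Torsion

/-!
# Torsion criteria for glueing pairs and glueable modules
-/

set_option autoImplicit false
set_option linter.unusedSectionVars false
universe u

open TensorProduct

noncomputable section

namespace Groth.Agent.GluePair

variable {R R' : Type u} [CommRing R] [CommRing R'] [Algebra R R'] {f : R}
  {M : Type u} [AddCommGroup M] [Module R M]

lemma away_eq_zero_iff {A : Type u} [CommRing A] {g x : A} :
    algebraMap A (Localization.Away g) x = 0 ↔ ∃ n : ℕ, g ^ n * x = 0 := by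
  rw [IsLocalization.map_eq_zero_iff (Submonoid.powers g)]
  exact ⟨fun ⟨⟨_, n, rfl⟩, h⟩ => ⟨n, h⟩, fun ⟨n, h⟩ => ⟨⟨_, n, rfl⟩, h⟩⟩

lemma loc_eq_zero_iff {x : M} :
    LocalizedModule.mkLinearMap (Submonoid.powers f) M x = 0 ↔ ∃ n : ℕ, f ^ n • x = 0 := by
  rw [IsLocalizedModule.eq_zero_iff (Submonoid.powers f)]
  exact ⟨fun ⟨⟨_, n, rfl⟩, h⟩ => ⟨n, h⟩, fun ⟨n, h⟩ => ⟨⟨_, n, rfl⟩, h⟩⟩

lemma tensorOfLoc_mk (m : M) :
    EtGlue.tensorOfLoc R R' f M (LocalizedModule.mkLinearMap (Submonoid.powers f) M m) =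
      EtGlue.locOfTensor R R' f M ((1 : R') ⊗ₜ[R] m) :=
  IsLocalizedModule.map_apply _ _ _ _ m

lemma smul_loc_cancel {n : ℕ} {a b : LocalizedModule (Submonoid.powers f) M}
    (h : f ^ n • a = f ^ n • b) : a = b :=
  ((Module.End.isUnit_iff _).mp
    (IsLocalizedModule.map_units (LocalizedModule.mkLinearMap (Submonoid.powers f) M)
      (⟨f ^ n, n, rfl⟩ : Submonoid.powers f))).1 h

/-- The torsion hypotheses of a glueing pair. -/
theorem pair_of_isGlueingPair (h : EtGlue.IsGlueingPair R R' f) : Pair R' f := by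
  refine ⟨h.1, fun r n hn hr => h.2.1 (Prod.ext (by simpa using hr) ?_), fun x n hx => ?_⟩
  · dsimp only
    rw [map_zero]
    exact away_eq_zero_iff.mpr ⟨n, hn⟩
  · obtain ⟨r, hr₁, hr₂⟩ := h.2.2.1 x 0 (by
      rw [map_zero, away_eq_zero_iff]
      exact ⟨n, by rwa [← map_pow]⟩)
    refine ⟨r, h.2.1 (Prod.ext ?_ ?_), hr₁⟩
    · dsimp only
      rw [map_mul, hr₁, map_zero]
      exact hx
    · dsimp only
      rw [map_mul, hr₂, mul_zero, map_zero]

/-- A pair with matching torsion is a glueing pair. -/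
theorem Pair.isGlueingPair (H : Pair R' f) : EtGlue.IsGlueingPair R R' f := by
  refine ⟨H.quot, fun r r' hr => ?_, fun x y hxy => ?_, fun z => ?_⟩
  · obtain ⟨h₁, h₂⟩ := Prod.ext_iff.mp hr
    change algebraMap R R' r = algebraMap R R' r' at h₁
    change algebraMap R (Localization.Away f) r = algebraMap R (Localization.Away f) r' at h₂
    rw [← sub_eq_zero, ← map_sub] at h₁ h₂
    obtain ⟨n, hn⟩ := away_eq_zero_iff.mp h₂
    exact sub_eq_zero.mp (H.inj _ n hn h₁)
  · obtain ⟨⟨a, ⟨_, n, rfl⟩⟩, hy⟩ := IsLocalization.surj (Submonoid.powers f) y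
    have h1 := congrArg (Localization.awayMap (algebraMap R R') f) hy
    rw [map_mul, ← hxy] at h1
    simp only [Localization.awayMap, IsLocalization.Away.map, IsLocalization.map_eq] at h1
    rw [← map_mul, ← sub_eq_zero, ← map_sub] at h1
    obtain ⟨m, hm⟩ := away_eq_zero_iff.mp h1
    obtain ⟨s, hs⟩ := dvd_of_algebraMap_eq H.quot (m + n) (r := f ^ m * a) (y := x) (by
      rw [map_mul, map_pow, map_pow, pow_add]
      rw [map_pow] at hm
      linear_combination -hm)
    obtain ⟨t, ht₁, ht₂⟩ := H.surj (x - algebraMap R R' s) (m + n) (by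
      have := congrArg (algebraMap R R') hs
      rw [map_mul, map_mul, map_pow] at this
      rw [map_pow, pow_add]
      simp only [pow_add, map_mul, map_pow] at this hm ⊢
      linear_combination hm + this)
    refine ⟨s + t, by rw [map_add, ht₂, add_sub_cancel], ?_⟩
    have hu : IsUnit (algebraMap R (Localization.Away f) (f ^ (m + n))) :=
      IsLocalization.map_units _ (⟨f ^ (m + n), m + n, rfl⟩ : Submonoid.powers f)
    refine hu.mul_left_cancel ?_
    rw [← map_mul, mul_add, ht₁, add_zero, ← hs, map_mul, ← hy]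
    rw [pow_add, map_mul]
    ring
  · obtain ⟨⟨x', ⟨_, n, rfl⟩⟩, hz⟩ :=
      IsLocalization.surj (Submonoid.powers (algebraMap R R' f)) z
    obtain ⟨r, x, hx⟩ := exists_eq_algebraMap_add H.quot n x'
    have hu : IsUnit (algebraMap R' (Localization.Away (algebraMap R R' f)) (algebraMap R R' f ^ n)) :=
      IsLocalization.map_units _ (⟨_, n, rfl⟩ : Submonoid.powers (algebraMap R R' f))
    refine ⟨x, -IsLocalization.mk' (Localization.Away f) r (⟨f ^ n, n, rfl⟩ : Submonoid.powers f),
      hu.mul_right_cancel (hz.trans ?_).symm⟩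
    have e := congrArg (Localization.awayMap (algebraMap R R') f)
      (IsLocalization.mk'_spec (Localization.Away f) r (⟨f ^ n, n, rfl⟩ : Submonoid.powers f))
    simp only [map_mul, Localization.awayMap, IsLocalization.Away.map, IsLocalization.map_eq] at e
    simp only [map_neg, Localization.awayMap, IsLocalization.Away.map, hx, map_add, map_mul]
    rw [map_pow] at e
    rw [map_pow]
    linear_combination -e

/-- A module is glueable exactly when torsion injects into the base change, and lifts. -/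
theorem isGlueable_iff (hq : EtGlue.QuotPowBijective R R' f) :
    EtGlue.IsGlueable R R' f M ↔ TInj R' f M ∧
      ∀ (x : R' ⊗[R] M) (n : ℕ), f ^ n • x = 0 → ∃ m : M, f ^ n • m = 0 ∧ (1 : R') ⊗ₜ[R] m = x := by
  constructor
  · refine fun h => ⟨fun m n hn hm => h.1 (Prod.ext (by simpa using hm) ?_), fun x n hn => ?_⟩
    · dsimp only
      rw [map_zero]
      exact loc_eq_zero_iff.mpr ⟨n, hn⟩
    · obtain ⟨m, hm₁, hm₂⟩ := h.2 x 0 (by
        rw [map_zero]
        exact loc_eq_zero_iff.mpr ⟨n, hn⟩)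
      refine ⟨m, h.1 (Prod.ext ?_ ?_), hm₁⟩
      · change (1 : R') ⊗ₜ[R] (f ^ n • m) = (1 : R') ⊗ₜ[R] (0 : M)
        rw [TensorProduct.tmul_smul, hm₁, hn, tmul_zero]
      · change LocalizedModule.mkLinearMap (Submonoid.powers f) M (f ^ n • m) =
          LocalizedModule.mkLinearMap (Submonoid.powers f) M 0
        rw [map_smul, hm₂, smul_zero, map_zero]
  · rintro ⟨hinj, hsurj⟩
    refine ⟨fun a b hab => ?_, fun x y hxy => ?_⟩
    · obtain ⟨h₁, h₂⟩ := Prod.ext_iff.mp hab
      change (1 : R') ⊗ₜ[R] a = (1 : R') ⊗ₜ[R] b at h₁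
      change LocalizedModule.mkLinearMap (Submonoid.powers f) M a =
        LocalizedModule.mkLinearMap (Submonoid.powers f) M b at h₂
      rw [← sub_eq_zero, ← map_sub] at h₂
      rw [← sub_eq_zero, ← tmul_sub] at h₁
      obtain ⟨n, hn⟩ := loc_eq_zero_iff.mp h₂
      exact sub_eq_zero.mp (hinj _ n hn h₁)
    · obtain ⟨⟨a, ⟨_, n, rfl⟩⟩, hy⟩ :=
        IsLocalizedModule.surj (Submonoid.powers f) (LocalizedModule.mkLinearMap (Submonoid.powers f) M) y
      rw [Submonoid.smul_def] at hy
      have h1 : EtGlue.locOfTensor R R' f M (f ^ n • x - (1 : R') ⊗ₜ a) = 0 := by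
        rw [map_sub, map_smul, hxy, ← map_smul (EtGlue.tensorOfLoc R R' f M), hy, tensorOfLoc_mk,
          sub_self]
      obtain ⟨j, hj⟩ := loc_eq_zero_iff.mp h1
      obtain ⟨s, hs⟩ := exists_smul_of_tmul_eq hq (j + n) (m := f ^ j • a) (y := x) (by
        rw [TensorProduct.tmul_smul, pow_add, mul_smul]
        exact (sub_eq_zero.mp ((smul_sub (f ^ j) _ _).symm.trans hj)).symm)
      obtain ⟨t, ht₁, ht₂⟩ := hsurj (x - (1 : R') ⊗ₜ s) (j + n) (by
        rw [smul_sub, ← TensorProduct.tmul_smul (R' := R) (f ^ (j + n)), ← hs, TensorProduct.tmul_smul,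
          pow_add, mul_smul]
        exact (smul_sub (f ^ j) _ _).symm.trans hj)
      refine ⟨s + t, by rw [tmul_add, ht₂, add_sub_cancel], smul_loc_cancel (n := j + n) ?_⟩
      rw [← map_smul, smul_add, ht₁, add_zero, ← hs, map_smul, pow_add, mul_smul, hy]

/-- Over a glueing pair only injectivity on torsion matters. -/
theorem Pair.isGlueable_iff (H : Pair R' f) : EtGlue.IsGlueable R R' f M ↔ TInj R' f M := by
  rw [GluePair.isGlueable_iff H.quot]
  exact ⟨fun h => h.1, fun h => ⟨h, fun x n hx => H.exists_torsion_lift x n hx⟩⟩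

end Groth.Agent.GluePair

end
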