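import Mathlib
import Groth.Agent.GluePair.Criteria

/-!
# Glueing of modules along a glueing pair
-/

set_option autoImplicit false
set_option linter.unusedSectionVars false
universe u

open TensorProduct

noncomputable section

namespace Groth.Agent.GluePair

variable {R R' : Type u} [CommRing R] [CommRing R'] [Algebra R R'] {f : R}
  {M N : Type u} [AddCommGroup M] [Module R M] [AddCommGroup N] [Module R N]

/-- The kernel of a localisation map tensored with a module is torsion. -/
lemma torsion_of_lTensor_eq_zero (P : Type u) [AddCommGroup P] [Module R P] (g : M →ₗ[R] N)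
    [IsLocalizedModule (Submonoid.powers f) g] (z : P ⊗[R] M) (hz : g.lTensor P z = 0) :
    ∃ n : ℕ, f ^ n • z = 0 := by
  have h : g.rTensor P (TensorProduct.comm R P M z) = 0 := by
    have e : g.rTensor P ∘ₗ (TensorProduct.comm R P M).toLinearMap =
        (TensorProduct.comm R P N).toLinearMap ∘ₗ g.lTensor P := TensorProduct.ext' fun _ _ => rfl
    exact (LinearMap.congr_fun e z).trans ((congrArg (TensorProduct.comm R P N) hz).trans (map_zero _))
  obtain ⟨⟨_, n, rfl⟩, hn⟩ :=
    (IsLocalizedModule.eq_zero_iff (Submonoid.powers f)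
      (AlgebraTensorModule.rTensor R P g)).mp h
  refine ⟨n, (TensorProduct.comm R P M).injective ?_⟩
  rw [map_smul, map_zero]
  exact hn

/-- The tensor product of a localised module is the localisation of the tensor product. -/
lemma exists_smul_eq_lTensor (P : Type u) [AddCommGroup P] [Module R P] (g : M →ₗ[R] N)
    [IsLocalizedModule (Submonoid.powers f) g] (y : P ⊗[R] N) :
    ∃ (n : ℕ) (x : P ⊗[R] M), f ^ n • y = g.lTensor P x := by
  induction y using TensorProduct.induction_on with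
  | zero => exact ⟨0, 0, by simp⟩
  | tmul p b =>
    obtain ⟨⟨a, ⟨_, n, rfl⟩⟩, h⟩ := IsLocalizedModule.surj (Submonoid.powers f) g b
    refine ⟨n, p ⊗ₜ a, ?_⟩
    rw [LinearMap.lTensor_tmul, ← TensorProduct.tmul_smul]
    exact congrArg (p ⊗ₜ[R] ·) h
  | add y y' hy hy' =>
    obtain ⟨n, x, hx⟩ := hy
    obtain ⟨n', x', hx'⟩ := hy'
    refine ⟨n + n', f ^ n' • x + f ^ n • x', ?_⟩
    rw [map_add, map_smul, map_smul, ← hx, ← hx', smul_add, smul_smul, smul_smul, ← pow_add,
      ← pow_add, add_comm n' n]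

/-- Glueing data is realised by a glueable module. -/
theorem Pair.exists_glue (H : Pair R' f) (M' : Type u) [AddCommGroup M'] [Module R' M'] [Module R M']
    [IsScalarTower R R' M'] (M₁ : Type u) [AddCommGroup M₁] [Module R M₁]
    (hf : Function.Bijective fun x : M₁ => f • x)
    (α : LocalizedModule (Submonoid.powers (algebraMap R R' f)) M' ≃ₗ[R'] R' ⊗[R] M₁) :
    ∃ (M : Submodule R (M' × M₁)),
      (∀ x : M' × M₁, x ∈ M ↔
        α (LocalizedModule.mkLinearMap (Submonoid.powers (algebraMap R R' f)) M' x.1) = (1 : R') ⊗ₜ[R] x.2) ∧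
      TInj R' f M ∧
      Function.Bijective ((LinearMap.fst R M' M₁ ∘ₗ M.subtype).liftBaseChange R') ∧
      IsLocalizedModule (Submonoid.powers f) (LinearMap.snd R M' M₁ ∘ₗ M.subtype) := by
  let β : M' →ₗ[R] R' ⊗[R] M₁ :=
    (α.toLinearMap ∘ₗ LocalizedModule.mkLinearMap (Submonoid.powers (algebraMap R R' f)) M').restrictScalars R
  let M : Submodule R (M' × M₁) := LinearMap.eqLocus (β ∘ₗ LinearMap.fst R M' M₁)
    (TensorProduct.mk R R' M₁ 1 ∘ₗ LinearMap.snd R M' M₁)
  have hmem : ∀ x : M' × M₁, x ∈ M ↔ β x.1 = (1 : R') ⊗ₜ[R] x.2 := fun x => Iff.rfl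
  let p : M →ₗ[R] M' := LinearMap.fst R M' M₁ ∘ₗ M.subtype
  let q : M →ₗ[R] M₁ := LinearMap.snd R M' M₁ ∘ₗ M.subtype
  have hfn : ∀ (n : ℕ) (x : M₁), f ^ n • x = 0 → x = 0 := fun n => by
    induction n with
    | zero => intro x hx; rwa [pow_zero, one_smul] at hx
    | succ n ih =>
      intro x hx
      rw [pow_succ, mul_smul] at hx
      exact hf.1 ((ih _ hx).trans (smul_zero f).symm)
  have hβ0 : ∀ a : M', β a = 0 → ∃ n : ℕ, f ^ n • a = 0 := fun a ha => by
    have h' := (IsLocalizedModule.eq_zero_iff (Submonoid.powers (algebraMap R R' f))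
      (LocalizedModule.mkLinearMap (Submonoid.powers (algebraMap R R' f)) M')).mp
      ((LinearEquiv.map_eq_zero_iff α).mp ha)
    obtain ⟨⟨_, n, rfl⟩, hn⟩ := h'
    exact ⟨n, by rw [← IsScalarTower.algebraMap_smul R' (f ^ n), map_pow]; exact hn⟩
  have hβs : ∀ z, ∃ (n : ℕ) (a : M'), f ^ n • z = β a := fun z => by
    obtain ⟨⟨a, ⟨_, n, rfl⟩⟩, h⟩ :=
      IsLocalizedModule.surj (Submonoid.powers (algebraMap R R' f))
        (LocalizedModule.mkLinearMap _ M') (α.symm z)
    refine ⟨n, a, ?_⟩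
    have h' := congrArg α h
    rw [Submonoid.smul_def, map_smul, α.apply_symm_apply] at h'
    rw [← IsScalarTower.algebraMap_smul R' (f ^ n), map_pow]
    exact h'
  have hq : IsLocalizedModule (Submonoid.powers f) q := by
    refine ⟨fun ⟨s, n, hs⟩ => ?_, fun y => ?_, fun {x y} h => ?_⟩
    · change IsUnit (algebraMap R (Module.End R M₁) s)
      rw [← hs, map_pow]
      exact ((Module.End.isUnit_iff _).mpr hf).pow n
    · obtain ⟨n, a, hn⟩ := hβs ((1 : R') ⊗ₜ[R] y)
      exact ⟨⟨⟨(a, f ^ n • y), (hmem _).mpr (by rw [TensorProduct.tmul_smul, hn])⟩,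
        ⟨f ^ n, n, rfl⟩⟩, rfl⟩
    · obtain ⟨n, hn⟩ := hβ0 (p (x - y)) (by
        change β ((x - y : M) : M' × M₁).1 = 0
        rw [(hmem _).mp (x - y).2]
        change (1 : R') ⊗ₜ[R] q (x - y) = 0
        rw [map_sub, h, sub_self, tmul_zero])
      refine ⟨⟨f ^ n, n, rfl⟩, ?_⟩
      rw [← sub_eq_zero, Submonoid.smul_def, Submonoid.smul_def, ← smul_sub]
      refine Subtype.ext (Prod.ext hn ?_)
      change f ^ n • q (x - y) = 0
      rw [map_sub, h, sub_self, smul_zero]
  have hcomp : β ∘ₗ (p.liftBaseChange R').restrictScalars R = q.lTensor R' :=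
    TensorProduct.ext' fun a x => by
      change β (p.liftBaseChange R' (a ⊗ₜ x)) = _
      rw [LinearMap.liftBaseChange_tmul]
      change α (LocalizedModule.mkLinearMap (Submonoid.powers (algebraMap R R' f)) M' (a • p x)) = _
      rw [map_smul, map_smul]
      change a • β ((x : M' × M₁).1) = _
      rw [(hmem _).mp x.2, smul_tmul', smul_eq_mul, mul_one]
      rfl
  have hT : TInj R' f M := fun t n hn ht => by
    have hp : p t = 0 := by
      rw [← one_smul R' (p t), ← LinearMap.liftBaseChange_tmul, ht, map_zero]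
    exact Subtype.ext (Prod.ext hp (hfn n (q t) (by rw [← map_smul, hn, map_zero])))
  refine ⟨M, hmem, hT, ⟨?_, fun a => ?_⟩, hq⟩
  · rw [injective_iff_map_eq_zero]
    intro z hz
    have hz' : q.lTensor R' z = 0 := by
      rw [← hcomp]
      exact (congrArg β hz).trans (map_zero β)
    obtain ⟨n, hn⟩ := torsion_of_lTensor_eq_zero (f := f) R' q z hz'
    obtain ⟨t, ht₁, rfl⟩ := H.exists_torsion_lift z n hn
    rw [LinearMap.liftBaseChange_tmul, one_smul] at hz
    have hq0 : q t = 0 := hfn n _ (by rw [← map_smul, ht₁, map_zero])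
    rw [show t = 0 from Subtype.ext (Prod.ext hz hq0), tmul_zero]
  · have hdec : ∀ z : R' ⊗[R] M₁, ∃ (y : M₁) (w : R' ⊗[R] M),
        z = (1 : R') ⊗ₜ[R] y + q.lTensor R' w := fun z => by
      induction z using TensorProduct.induction_on with
      | zero => exact ⟨0, 0, by simp⟩
      | tmul s y =>
        obtain ⟨⟨x, ⟨_, n, rfl⟩⟩, hx⟩ := IsLocalizedModule.surj (Submonoid.powers f) q y
        obtain ⟨r, s', hs⟩ := exists_eq_algebraMap_add H.quot n s
        refine ⟨r • y, s' ⊗ₜ x, ?_⟩
        rw [LinearMap.lTensor_tmul, ← hx, Submonoid.smul_def, hs, add_tmul, TensorProduct.tmul_smul,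
          TensorProduct.tmul_smul, TensorProduct.smul_tmul', TensorProduct.smul_tmul',
          Algebra.smul_def, Algebra.smul_def, mul_one]
      | add z z' hz hz' =>
        obtain ⟨y, w, rfl⟩ := hz
        obtain ⟨y', w', rfl⟩ := hz'
        exact ⟨y + y', w + w', by rw [tmul_add, map_add]; abel⟩
    obtain ⟨y, w, hw⟩ := hdec (β a)
    have hx : (a - p.liftBaseChange R' w, y) ∈ M := (hmem _).mpr (by
      rw [map_sub, sub_eq_iff_eq_add, hw, ← hcomp]
      rfl)
    refine ⟨(1 : R') ⊗ₜ[R] (⟨_, hx⟩ : M) + w, ?_⟩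
    rw [map_add, LinearMap.liftBaseChange_tmul, one_smul]
    exact sub_add_cancel _ _

end Groth.Agent.GluePair

end
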