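import Mathlib
import Groth.Agent.GluePair.Glue

/-!
# Flatness and finiteness over glueing pairs
-/

set_option autoImplicit false
set_option linter.unusedSectionVars false
universe u

open TensorProduct

noncomputable section

namespace Groth.Agent.GluePair

variable {R R' : Type u} [CommRing R] [CommRing R'] [Algebra R R'] {f : R}
  {M N F : Type u} [AddCommGroup M] [Module R M] [AddCommGroup N] [Module R N]
  [AddCommGroup F] [Module R F]

/-- When the localised cokernel is flat, the kernel after tensoring is torsion. -/
lemma torsion_of_lTensor_subtype_eq_zero (P : Type u) [AddCommGroup P] [Module R P] (π : F →ₗ[R] M)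
    (hπ : Function.Surjective π) (hM : Module.Flat R (LocalizedModule (Submonoid.powers f) M))
    (z : P ⊗[R] LinearMap.ker π) (hz : (LinearMap.ker π).subtype.lTensor P z = 0) :
    ∃ n : ℕ, f ^ n • z = 0 := by
  let S := Submonoid.powers f
  let lK := LocalizedModule.mkLinearMap S (LinearMap.ker π)
  let lF := LocalizedModule.mkLinearMap S F
  let lM := LocalizedModule.mkLinearMap S M
  let iS := IsLocalizedModule.map S lK lF (LinearMap.ker π).subtype
  let πS := IsLocalizedModule.map S lF lM π
  have hiS : Function.Injective iS :=
    IsLocalizedModule.map_injective S lK lF _ (LinearMap.ker π).subtype_injective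
  have hπS : Function.Surjective πS := IsLocalizedModule.map_surjective S lF lM π hπ
  have hex : Function.Exact iS πS :=
    IsLocalizedModule.map_exact S lK lF lM _ _ (LinearMap.exact_subtype_ker_map π)
  refine torsion_of_lTensor_eq_zero P lK z
    (LinearMap.lTensor_injective_of_exact_of_flat πS hπS iS hiS hex P ?_)
  have e : iS ∘ₗ lK = lF ∘ₗ (LinearMap.ker π).subtype :=
    LinearMap.ext fun x => IsLocalizedModule.map_apply S lK lF _ x
  rw [map_zero, ← LinearMap.lTensor_comp_apply, e, LinearMap.lTensor_comp_apply, hz, map_zero]

/-- Tensoring a glueable module with a module flat away from `f` gives a glueable module. -/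
lemma Pair.tInj_tensor (H : Pair R' f) (hN : TInj R' f N)
    (hM : Module.Flat R (LocalizedModule (Submonoid.powers f) M)) : TInj R' f (N ⊗[R] M) := by
  classical
  let π : (M →₀ R) →ₗ[R] M := Finsupp.linearCombination R id
  have hπ : Function.Surjective π := Finsupp.linearCombination_surjective _ Function.surjective_id
  have hQ : TInj R' f (N ⊗[R] (M →₀ R)) :=
    (hN.finsupp M).of_injective (TensorProduct.finsuppScalarRight R R N M).toLinearMap
      (TensorProduct.finsuppScalarRight R R N M).injective
  refine H.tInj_coker ((LinearMap.ker π).subtype.lTensor N) (π.lTensor N)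
    (lTensor_exact (M := LinearMap.ker π) N (LinearMap.exact_subtype_ker_map π) hπ)
    (LinearMap.lTensor_surjective N hπ) hQ fun w hw => ?_
  let e := (TensorProduct.assoc R R' N (LinearMap.ker π)).symm
  obtain ⟨n, hn⟩ := torsion_of_lTensor_subtype_eq_zero (R' ⊗[R] N) π hπ hM (e w) (by
    have h : (LinearMap.ker π).subtype.lTensor (R' ⊗[R] N) ∘ₗ e.toLinearMap =
        (TensorProduct.assoc R R' N (M →₀ R)).symm.toLinearMap ∘ₗ
          ((LinearMap.ker π).subtype.lTensor N).lTensor R' :=
      TensorProduct.ext_threefold' fun _ _ _ => rfl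
    exact (LinearMap.congr_fun h w).trans
      ((congrArg (TensorProduct.assoc R R' N (M →₀ R)).symm hw).trans (map_zero _)))
  exact ⟨n, e.injective (by rw [map_smul, hn, map_zero])⟩

/-- A module flat away from `f` is glueable. -/
lemma Pair.tInj_of_flat (H : Pair R' f)
    (hM : Module.Flat R (LocalizedModule (Submonoid.powers f) M)) : TInj R' f M :=
  (H.tInj_tensor H.tInj_self hM).of_injective (TensorProduct.lid R M).symm.toLinearMap
    (TensorProduct.lid R M).symm.injective

/-- For `R' ⊗ M` flat, tensoring `R'`-modules with `M` over `R` preserves injections. -/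
lemma rTensor_injective_of_flat_baseChange (hM' : Module.Flat R' (R' ⊗[R] M)) {W W' : Type u}
    [AddCommGroup W] [Module R W] [Module R' W] [IsScalarTower R R' W]
    [AddCommGroup W'] [Module R W'] [Module R' W'] [IsScalarTower R R' W']
    (u : W →ₗ[R'] W') (hu : Function.Injective u) :
    Function.Injective ((u.restrictScalars R).rTensor M) := by
  let e := AlgebraTensorModule.cancelBaseChange R R' R' W M
  let e' := AlgebraTensorModule.cancelBaseChange R R' R' W' M
  have h : (u.restrictScalars R).rTensor M ∘ e = e' ∘ u.rTensor (R' ⊗[R] M) := by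
    have : ((u.restrictScalars R).rTensor M) ∘ₗ e.toLinearMap.restrictScalars R =
        (e'.toLinearMap ∘ₗ u.rTensor (R' ⊗[R] M)).restrictScalars R := by
      apply LinearMap.ext
      intro z
      induction z using TensorProduct.induction_on with
      | zero => simp
      | add a b ha hb => simp only [map_add, ha, hb]
      | tmul w y =>
        induction y using TensorProduct.induction_on with
        | zero => simp
        | add a b ha hb => simp only [tmul_add, map_add, ha, hb]
        | tmul a m => simp [e, e']
    exact congrArg DFunLike.coe this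
  have hinj : Function.Injective (e' ∘ u.rTensor (R' ⊗[R] M)) :=
    e'.injective.comp (Module.Flat.rTensor_preserves_injective_linearMap u hu)
  rw [← h] at hinj
  exact Function.Injective.of_comp_right hinj e.surjective

/-- Flatness is detected by a glueing pair. -/
theorem Pair.flat (H : Pair R' f) (hM' : Module.Flat R' (R' ⊗[R] M))
    (hM : Module.Flat R (LocalizedModule (Submonoid.powers f) M)) : Module.Flat R M := by
  rw [Module.Flat.iff_rTensor_injective']
  intro I
  rw [injective_iff_map_eq_zero]
  intro z hz
  let g := LocalizedModule.mkLinearMap (Submonoid.powers f) M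
  obtain ⟨n, hn⟩ := torsion_of_lTensor_eq_zero (f := f) I g z
    (Module.Flat.rTensor_preserves_injective_linearMap (M := LocalizedModule (Submonoid.powers f) M)
      I.subtype I.subtype_injective (by
        rw [map_zero, ← LinearMap.comp_apply, LinearMap.rTensor_comp_lTensor,
          ← LinearMap.lTensor_comp_rTensor, LinearMap.comp_apply, hz, map_zero]))
  have hTI : TInj R' f I := H.tInj_self.of_injective I.subtype I.subtype_injective
  refine H.tInj_tensor hTI hM z n hn ((TensorProduct.assoc R R' I M).symm.injective ?_)
  rw [map_zero]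
  set z' : (R' ⊗[R] I) ⊗[R] M := (TensorProduct.assoc R R' I M).symm ((1 : R') ⊗ₜ[R] z) with hz'
  change z' = 0
  let μ : R' ⊗[R] I →ₗ[R'] R' :=
    ((Algebra.linearMap R R').comp I.subtype).liftBaseChange R'
  let φ : R' ⊗[R] I →ₗ[R'] R' ⊗[R] I := algebraMap R R' (f ^ n) • LinearMap.id
  have hμ0 : (μ.restrictScalars R).rTensor M z' = 0 := by
    have h : (μ.restrictScalars R).rTensor M ∘ₗ (TensorProduct.assoc R R' I M).symm.toLinearMap ∘ₗ
        TensorProduct.mk R R' (↥I ⊗[R] M) 1 = (Algebra.linearMap R R').rTensor M ∘ₗ I.subtype.rTensor M := by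
      refine TensorProduct.ext' fun a m => ?_
      simp [μ]
    refine (LinearMap.congr_fun h z).trans ?_
    rw [LinearMap.comp_apply, hz, map_zero]
  have hφ0 : (φ.rangeRestrict.restrictScalars R).rTensor M z' = 0 := by
    refine rTensor_injective_of_flat_baseChange (R := R) (W := LinearMap.range φ) (W' := R' ⊗[R] I)
      hM' (LinearMap.range φ).subtype (LinearMap.range φ).subtype_injective ?_
    rw [map_zero, ← LinearMap.rTensor_comp_apply,
      show ((LinearMap.range φ).subtype.restrictScalars R) ∘ₗ (φ.rangeRestrict.restrictScalars R) =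
        φ.restrictScalars R from rfl,
      show φ.restrictScalars R = (f ^ n) • LinearMap.id from
        LinearMap.ext fun w => IsScalarTower.algebraMap_smul R' (f ^ n) w,
      LinearMap.rTensor_smul, LinearMap.rTensor_id, LinearMap.smul_apply, LinearMap.id_apply, hz',
      ← map_smul, ← TensorProduct.tmul_smul, hn, tmul_zero, map_zero]
  let ι₀ : LinearMap.ker φ →ₗ[R] R' ⊗[R] I := (LinearMap.ker φ).subtype.restrictScalars R
  let ρ : R' ⊗[R] I →ₗ[R] LinearMap.range φ := φ.rangeRestrict.restrictScalars R
  have hρ : Function.Surjective ρ := φ.surjective_rangeRestrict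
  have hexact : Function.Exact ι₀ ρ := by
    intro w
    constructor
    · intro h
      exact ⟨⟨w, congrArg Subtype.val h⟩, rfl⟩
    · rintro ⟨v, rfl⟩
      exact Subtype.ext v.2
  obtain ⟨t, ht⟩ := (rTensor_exact (M := LinearMap.ker φ) (N := R' ⊗[R] I) (P := LinearMap.range φ) M hexact hρ z').mp hφ0
  have hinj : Function.Injective (μ ∘ₗ (LinearMap.ker φ).subtype) := by
    rw [injective_iff_map_eq_zero]
    rintro ⟨w, hw⟩ hμ
    obtain ⟨a, ha₁, ha₂⟩ := H.exists_torsion_lift w n (by
      rw [← IsScalarTower.algebraMap_smul R' (f ^ n) w]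
      exact hw)
    have ha0 : (a : R) = 0 := H.tInj_self (a : R) n (by rw [← Submodule.coe_smul, ha₁]; rfl) (by
      apply (TensorProduct.rid R R').injective
      rw [TensorProduct.rid_tmul, map_zero, Algebra.smul_def, mul_one]
      change μ w = 0 at hμ
      rw [← ha₂] at hμ
      simpa [μ] using hμ)
    exact Subtype.ext (by
      change w = 0
      rw [← ha₂, show a = 0 from Subtype.ext ha0, tmul_zero])
  have ht0 : t = 0 := by
    refine rTensor_injective_of_flat_baseChange (R := R) (W := LinearMap.ker φ) (W' := R') hM'
      (μ ∘ₗ (LinearMap.ker φ).subtype) hinj ?_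
    rw [map_zero, show (μ ∘ₗ (LinearMap.ker φ).subtype).restrictScalars R =
      (μ.restrictScalars R) ∘ₗ ((LinearMap.ker φ).subtype.restrictScalars R) from rfl,
      LinearMap.rTensor_comp_apply, ht, hμ0]
  rw [← ht, ht0, map_zero]

/-- Finiteness is detected on the two base changes. -/
theorem finite_of_quot (hq : EtGlue.QuotPowBijective R R' f)
    (h' : Module.Finite R' (R' ⊗[R] M))
    (h₁ : Module.Finite (Localization.Away f) (LocalizedModule (Submonoid.powers f) M)) :
    Module.Finite R M := by
  classical
  have hspan : Submodule.span R' (Set.range (TensorProduct.mk R R' M 1)) = ⊤ := by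
    rw [eq_top_iff]
    intro x hx
    clear hx
    induction x using TensorProduct.induction_on with
    | zero => exact zero_mem _
    | add a b ha hb => exact add_mem ha hb
    | tmul a m =>
      rw [show a ⊗ₜ[R] m = a • ((1 : R') ⊗ₜ[R] m) by rw [smul_tmul', smul_eq_mul, mul_one]]
      exact Submodule.smul_mem _ _ (Submodule.subset_span ⟨m, rfl⟩)
  obtain ⟨s', hs', hs'eq⟩ := (Submodule.fg_span_iff_fg_span_finset_subset _).mp
    (hspan.symm ▸ h'.fg_top : (Submodule.span R' (Set.range (TensorProduct.mk R R' M 1))).FG)
  obtain ⟨s₁, hs₁⟩ := h₁.fg_top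
  choose m₁ hm₁ using fun y =>
    IsLocalizedModule.surj (Submonoid.powers f) (LocalizedModule.mkLinearMap (Submonoid.powers f) M) y
  choose m' hm' using hs'
  let N : Submodule R M := Submodule.span R
    (((Finset.univ : Finset s').image fun x => m' x.2) ∪ s₁.image fun y => (m₁ y).1 : Finset M)
  refine ⟨⟨(((Finset.univ : Finset s').image fun x => m' x.2) ∪ s₁.image fun y => (m₁ y).1),
    ?_⟩⟩
  change N = ⊤
  have htor : ∀ c : M ⧸ N, ∃ n : ℕ, f ^ n • c = 0 := by
    have key : ∀ y : LocalizedModule (Submonoid.powers f) M,
        ∃ (n : ℕ) (m : M), m ∈ N ∧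
          f ^ n • y = LocalizedModule.mkLinearMap (Submonoid.powers f) M m := by
      intro y
      induction (hs₁ ▸ Submodule.mem_top : y ∈ Submodule.span (Localization.Away f) (s₁ : Set _))
        using Submodule.span_induction with
      | mem y hy =>
        obtain ⟨n, hn⟩ := (m₁ y).2.2
        refine ⟨n, (m₁ y).1, Submodule.subset_span ?_, ?_⟩
        · exact Finset.mem_coe.mpr (Finset.mem_union_right _ (Finset.mem_image_of_mem _ hy))
        · have := hm₁ y
          rw [Submonoid.smul_def] at this
          rw [← this]
          exact congrArg (· • y) hn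
      | zero => exact ⟨0, 0, N.zero_mem, by simp⟩
      | add a b _ _ ha hb =>
        obtain ⟨n, m, hm, e⟩ := ha
        obtain ⟨n', m', hm', e'⟩ := hb
        refine ⟨n + n', f ^ n' • m + f ^ n • m', N.add_mem (N.smul_mem _ hm) (N.smul_mem _ hm'), ?_⟩
        rw [map_add, map_smul, map_smul, ← e, ← e', smul_add, smul_smul, smul_smul, ← pow_add,
          ← pow_add, add_comm n' n]
      | smul c a _ ha =>
        obtain ⟨n, m, hm, e⟩ := ha
        obtain ⟨⟨r, ⟨_, j, rfl⟩⟩, hc⟩ := IsLocalization.surj (Submonoid.powers f) c
        refine ⟨j + n, r • m, N.smul_mem _ hm, ?_⟩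
        rw [map_smul, ← e, ← IsScalarTower.algebraMap_smul (Localization.Away f) (f ^ (j + n)) (c • a),
          ← IsScalarTower.algebraMap_smul (Localization.Away f) r (f ^ n • a),
          ← IsScalarTower.algebraMap_smul (Localization.Away f) (f ^ n) a, smul_smul, smul_smul,
          pow_add, map_mul, ← hc]
        congr 1
        ring
    intro c
    obtain ⟨m, rfl⟩ := N.mkQ_surjective c
    obtain ⟨n, m₀, hm₀, e⟩ := key (LocalizedModule.mkLinearMap (Submonoid.powers f) M m)
    rw [← map_smul] at e
    obtain ⟨⟨_, j, rfl⟩, hj⟩ := (IsLocalizedModule.eq_iff_exists (Submonoid.powers f) _).mp e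
    refine ⟨j + n, ?_⟩
    rw [pow_add, mul_smul, ← map_smul, ← map_smul, Submodule.mkQ_apply, Submodule.Quotient.mk_eq_zero]
    rw [Submonoid.smul_def, Submonoid.smul_def] at hj
    rw [hj]
    exact N.smul_mem _ hm₀
  rw [eq_top_iff]
  intro m _
  have hzero : ∀ x : R' ⊗[R] M, N.mkQ.baseChange R' x = 0 := by
    intro x
    have hx : x ∈ Submodule.span R' (↑s' : Set (R' ⊗[R] M)) := hs'eq ▸ hspan ▸ Submodule.mem_top
    induction hx using Submodule.span_induction with
    | mem y hy =>
      rw [← hm' hy, TensorProduct.mk_apply, LinearMap.baseChange_tmul,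
        show N.mkQ (m' hy) = 0 from (Submodule.Quotient.mk_eq_zero N).mpr (Submodule.subset_span
          (Finset.mem_coe.mpr (Finset.mem_union_left _
            (Finset.mem_image.mpr ⟨⟨y, hy⟩, Finset.mem_univ _, rfl⟩)))), tmul_zero]
    | zero => exact map_zero _
    | add a b _ _ ha hb => rw [map_add, ha, hb, add_zero]
    | smul c a _ ha => rw [map_smul, ha, smul_zero]
  have := hzero ((1 : R') ⊗ₜ m)
  rw [LinearMap.baseChange_tmul] at this
  exact (Submodule.Quotient.mk_eq_zero N).mp
    ((bijective_mk_of_torsion hq htor).1 (this.trans (map_zero (TensorProduct.mk R R' (M ⧸ N) 1)).symm))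

/-- The base change of the kernel of a presentation of a flat module is finite when the base change
of the module is finitely presented. -/
lemma finite_baseChange_ker (S : Type u) [CommRing S] [Algebra R S] [Module.Flat R M] {n : ℕ}
    (π : (Fin n → R) →ₗ[R] M) (hπ : Function.Surjective π)
    (hM : Module.FinitePresentation S (S ⊗[R] M)) :
    Module.Finite S (S ⊗[R] LinearMap.ker π) := by
  let ι₁ := (LinearMap.ker π).subtype.baseChange S
  let π₁ := π.baseChange S
  have hπ₁ : Function.Surjective π₁ := LinearMap.lTensor_surjective S hπ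
  have hι₁ : Function.Injective ι₁ := LinearMap.lTensor_injective_of_exact_of_flat π hπ
    (LinearMap.ker π).subtype (LinearMap.ker π).subtype_injective (LinearMap.exact_subtype_ker_map π) S
  have hex : Function.Exact ι₁ π₁ :=
    lTensor_exact (M := LinearMap.ker π) S (LinearMap.exact_subtype_ker_map π) hπ
  have hfg : (LinearMap.range ι₁).FG := by
    rw [← LinearMap.exact_iff.mp hex]
    exact Module.FinitePresentation.fg_ker π₁ hπ₁
  have : Module.Finite S (LinearMap.range ι₁) := Module.Finite.iff_fg.mpr hfg
  exact Module.Finite.equiv (LinearEquiv.ofInjective ι₁ hι₁).symm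

/-- Finite projectivity is detected on the two base changes. -/
theorem Pair.finite_projective (H : Pair R' f) (hq : EtGlue.QuotPowBijective R R' f)
    (h' : Module.Finite R' (R' ⊗[R] M)) (p' : Module.Projective R' (R' ⊗[R] M))
    (h₁ : Module.Finite (Localization.Away f) (LocalizedModule (Submonoid.powers f) M))
    (p₁ : Module.Projective (Localization.Away f) (LocalizedModule (Submonoid.powers f) M)) :
    Module.Finite R M ∧ Module.Projective R M := by
  have hfin := finite_of_quot hq h' h₁
  have hflat : Module.Flat R M := H.flat inferInstance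
    ((Module.flat_iff_of_isLocalization (Localization.Away f) (Submonoid.powers f) _).mp inferInstance)
  obtain ⟨n, π, hπ⟩ := Module.Finite.exists_fin' R M
  have hK' := finite_baseChange_ker R' π hπ (Module.finitePresentation_of_projective _ _)
  let e : Localization.Away f ⊗[R] M ≃ₗ[Localization.Away f] LocalizedModule (Submonoid.powers f) M :=
    (IsLocalizedModule.isBaseChange (Submonoid.powers f) (Localization.Away f)
      (LocalizedModule.mkLinearMap (Submonoid.powers f) M)).equiv
  have hM₁ : Module.FinitePresentation (Localization.Away f) (Localization.Away f ⊗[R] M) :=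
    @Module.FinitePresentation.of_equiv _ _ _ _ _ _ _ _ e.symm
      (Module.finitePresentation_of_projective _ _)
  have hK₁ := finite_baseChange_ker (Localization.Away f) π hπ hM₁
  have hK₁' : Module.Finite (Localization.Away f)
      (LocalizedModule (Submonoid.powers f) (LinearMap.ker π)) :=
    Module.Finite.equiv (IsLocalizedModule.isBaseChange (Submonoid.powers f) (Localization.Away f)
      (LocalizedModule.mkLinearMap (Submonoid.powers f) (LinearMap.ker π))).equiv
  have := finite_of_quot hq hK' hK₁'
  have : Module.FinitePresentation R M :=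
    Module.finitePresentation_of_surjective π hπ (Module.Finite.iff_fg.mp this)
  exact ⟨hfin, Module.Flat.projective_of_finitePresentation⟩

end Groth.Agent.GluePair

end
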