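import Mathlib
import Groth.Agent.GluePair.Criteria
import Groth.Agent.GluePair.Flat

/-!
# Glueing pairs and maps of algebras
-/

set_option autoImplicit false
set_option linter.unusedSectionVars false
universe u

open TensorProduct

noncomputable section

namespace Groth.Agent.GluePair

section Surjective

variable {R R' : Type u} [CommRing R] [CommRing R'] [Algebra R R'] {f : R}
  {M N : Type u} [AddCommGroup M] [Module R M] [AddCommGroup N] [Module R N]

lemma subsingleton_tensor_coker (S : Type u) [AddCommGroup S] [Module R S] (u : M →ₗ[R] N)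
    (h : Function.Surjective (u.lTensor S)) : Subsingleton (S ⊗[R] (N ⧸ LinearMap.range u)) := by
  refine subsingleton_of_forall_eq 0 fun x => ?_
  obtain ⟨y, rfl⟩ := LinearMap.lTensor_surjective S (Submodule.mkQ_surjective _) x
  obtain ⟨w, rfl⟩ := h y
  rw [← LinearMap.lTensor_comp_apply, LinearMap.range_mkQ_comp, LinearMap.lTensor_zero,
    LinearMap.zero_apply]

/-- A module which vanishes on the two base changes is zero. -/
lemma subsingleton_of_baseChanges (hq : EtGlue.QuotPowBijective R R' f)
    (h' : Subsingleton (R' ⊗[R] M)) (h₁ : Subsingleton (Localization.Away f ⊗[R] M)) :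
    Subsingleton M := by
  let e := (IsLocalizedModule.isBaseChange (Submonoid.powers f) (Localization.Away f)
    (LocalizedModule.mkLinearMap (Submonoid.powers f) M)).equiv
  have : Subsingleton (LocalizedModule (Submonoid.powers f) M) := e.symm.injective.subsingleton
  have htor : ∀ m : M, ∃ n : ℕ, f ^ n • m = 0 :=
    fun m => loc_eq_zero_iff.mp (Subsingleton.elim (LocalizedModule.mkLinearMap (Submonoid.powers f) M m) 0)
  exact (bijective_mk_of_torsion hq htor).1.subsingleton

/-- Surjectivity is detected on the two base changes. -/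
theorem surjective_of_baseChanges (hq : EtGlue.QuotPowBijective R R' f) (u : M →ₗ[R] N)
    (h' : Function.Surjective (u.lTensor R'))
    (h₁ : Function.Surjective (u.lTensor (Localization.Away f))) : Function.Surjective u := by
  have := subsingleton_of_baseChanges hq (subsingleton_tensor_coker R' u h')
    (subsingleton_tensor_coker (Localization.Away f) u h₁)
  intro y
  exact (Submodule.Quotient.mk_eq_zero _).mp
    (Subsingleton.elim (Submodule.Quotient.mk (p := LinearMap.range u) y) 0)

end Surjective

attribute [local instance] Algebra.TensorProduct.rightAlgebra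

section BaseChange

variable {R R' : Type u} [CommRing R] [CommRing R'] [Algebra R R'] {f : R}
  {A : Type u} [CommRing A] [Algebra R A]

lemma algebraMap_pow_smul_tensor (n : ℕ) (x : R' ⊗[R] A) :
    algebraMap A (R' ⊗[R] A) (algebraMap R A f ^ n) * x = f ^ n • x := by
  rw [← map_pow, Algebra.TensorProduct.algebraMap_eq_includeRight, AlgHom.coe_toRingHom,
    AlgHom.commutes, ← Algebra.smul_def]

/-- Agreement of the quotients passes to an algebra. -/
theorem quotPowBijective_baseChange (hq : EtGlue.QuotPowBijective R R' f) :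
    EtGlue.QuotPowBijective A (R' ⊗[R] A) (algebraMap R A f) := by
  intro n _
  constructor
  · rw [injective_iff_map_eq_zero]
    intro x hx
    obtain ⟨a, rfl⟩ := Ideal.Quotient.mk_surjective x
    rw [Ideal.quotientMap_mk, Ideal.Quotient.eq_zero_iff_mem, Ideal.map_span, Set.image_singleton,
      Ideal.mem_span_singleton'] at hx
    obtain ⟨y, hy⟩ := hx
    rw [mul_comm, algebraMap_pow_smul_tensor] at hy
    obtain ⟨a', rfl⟩ := exists_smul_of_tmul_eq hq n (m := a) (y := y) hy.symm
    rw [Ideal.Quotient.eq_zero_iff_mem, Ideal.mem_span_singleton, Algebra.smul_def, map_pow]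
    exact dvd_mul_right _ _
  · intro x
    obtain ⟨x, rfl⟩ := Ideal.Quotient.mk_surjective x
    obtain ⟨a, y, rfl⟩ := exists_eq_add hq n x
    refine ⟨Ideal.Quotient.mk _ a, ?_⟩
    rw [Ideal.quotientMap_mk, map_add, show algebraMap A (R' ⊗[R] A) a = (1 : R') ⊗ₜ[R] a from rfl,
      eq_comm, add_eq_left, Ideal.Quotient.eq_zero_iff_mem,
      Ideal.map_span, Set.image_singleton, ← algebraMap_pow_smul_tensor]
    exact Ideal.mul_mem_right _ _ (Ideal.mem_span_singleton_self _)

/-- A glueable algebra gives a glueing pair. -/
theorem Pair.baseChange (H : Pair R' f) (hA : TInj R' f A) :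
    Pair (R' ⊗[R] A) (algebraMap R A f) where
  quot := quotPowBijective_baseChange H.quot
  inj a n ha h1 := hA a n (by rw [Algebra.smul_def, map_pow]; exact ha) h1
  surj x n hx := by
    rw [algebraMap_pow_smul_tensor] at hx
    obtain ⟨a, ha, ha'⟩ := H.exists_torsion_lift x n hx
    exact ⟨a, by rwa [← map_pow, ← Algebra.smul_def], ha'⟩

end BaseChange

section Bridge

variable (R R' : Type u) [CommRing R] [CommRing R'] [Algebra R R']
  (A B : Type u) [CommRing A] [Algebra R A] [CommRing B] [Algebra R B] [Algebra A B]
  [IsScalarTower R A B]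

/-- The induced map of base changes. -/
abbrev tensorMap : R' ⊗[R] A →ₐ[R'] R' ⊗[R] B :=
  Algebra.TensorProduct.map (AlgHom.id R' R') (IsScalarTower.toAlgHom R A B)

/-- The canonical map `(R' ⊗ A) ⊗_A B → R' ⊗ B`. -/
def cancelHom : (R' ⊗[R] A) ⊗[A] B →+* R' ⊗[R] B :=
  letI : Algebra A (R' ⊗[R] B) :=
    ((Algebra.TensorProduct.includeRight : B →ₐ[R] R' ⊗[R] B).toRingHom.comp (algebraMap A B)).toAlgebra
  (Algebra.TensorProduct.lift
    ({ (tensorMap R R' A B).toRingHom with
      commutes' := fun a => show tensorMap R R' A B ((1 : R') ⊗ₜ[R] a) = (1 : R') ⊗ₜ algebraMap A B a by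
        simp } : R' ⊗[R] A →ₐ[A] R' ⊗[R] B)
    ({ (Algebra.TensorProduct.includeRight : B →ₐ[R] R' ⊗[R] B).toRingHom with
      commutes' := fun a => rfl } : B →ₐ[A] R' ⊗[R] B)
    fun _ _ => Commute.all _ _).toRingHom

lemma cancelHom_tmul (x : R' ⊗[R] A) (b : B) :
    cancelHom R R' A B (x ⊗ₜ[A] b) = tensorMap R R' A B x * ((1 : R') ⊗ₜ[R] b) := rfl

lemma bijective_cancelHom : Function.Bijective (cancelHom R R' A B) := by
  constructor
  · let g : R' →ₗ[R] B →ₗ[R] (R' ⊗[R] A) ⊗[A] B :=
      LinearMap.mk₂ R (fun r b => (r ⊗ₜ[R] (1 : A)) ⊗ₜ[A] b)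
        (fun r r' b => by rw [add_tmul, add_tmul])
        (fun c r b => by rw [← TensorProduct.smul_tmul', ← TensorProduct.smul_tmul'])
        (fun r b b' => tmul_add _ _ _)
        (fun c r b => by rw [TensorProduct.tmul_smul])
    refine Function.LeftInverse.injective (g := TensorProduct.lift g) fun z => ?_
    induction z using TensorProduct.induction_on with
    | zero => simp
    | add x y hx hy => rw [map_add, map_add, hx, hy]
    | tmul x b =>
      induction x using TensorProduct.induction_on with
      | zero => simp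
      | add x y hx hy => rw [add_tmul, map_add, map_add, hx, hy]
      | tmul r a =>
        rw [cancelHom_tmul]
        simp only [tensorMap, Algebra.TensorProduct.map_tmul, AlgHom.id_apply, IsScalarTower.coe_toAlgHom',
          Algebra.TensorProduct.tmul_mul_tmul, mul_one, lift.tmul, g, LinearMap.mk₂_apply]
        rw [← Algebra.smul_def, ← TensorProduct.smul_tmul]
        congr 1
        rw [Algebra.smul_def, Algebra.TensorProduct.algebraMap_eq_includeRight]
        simp
  · intro z
    induction z using TensorProduct.induction_on with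
    | zero => exact ⟨0, map_zero _⟩
    | add x y hx hy =>
      obtain ⟨a, rfl⟩ := hx
      obtain ⟨b, rfl⟩ := hy
      exact ⟨a + b, map_add _ _ _⟩
    | tmul r b => exact ⟨(r ⊗ₜ[R] (1 : A)) ⊗ₜ[A] b, by simp [cancelHom_tmul]⟩

/-- A property of ring maps holds for the induced map of base changes exactly when it holds for
the base change along `A → R' ⊗ A`. -/
theorem prop_tensorMap_iff
    {P : ∀ {R S : Type u} [CommRing R] [CommRing S], (R →+* S) → Prop} (hP : RingHom.RespectsIso P) :
    P (tensorMap R R' A B).toRingHom ↔
      P (algebraMap (R' ⊗[R] A) ((R' ⊗[R] A) ⊗[A] B)) := by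
  let e := RingEquiv.ofBijective (cancelHom R R' A B) (bijective_cancelHom R R' A B)
  have he : e.toRingHom.comp (algebraMap (R' ⊗[R] A) ((R' ⊗[R] A) ⊗[A] B)) =
      (tensorMap R R' A B).toRingHom := by
    refine RingHom.ext fun x => ?_
    change cancelHom R R' A B (x ⊗ₜ[A] (1 : B)) = tensorMap R R' A B x
    rw [cancelHom_tmul, ← Algebra.TensorProduct.one_def, mul_one]
  refine ⟨fun h => ?_, fun h => he ▸ hP.1 _ e h⟩
  rw [← he] at h
  have := hP.1 _ e.symm h
  rwa [← RingHom.comp_assoc, RingEquiv.toRingHom_eq_coe, RingEquiv.toRingHom_eq_coe,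
    RingEquiv.symm_comp, RingHom.id_comp] at this

/-- The map of localisations is the base change to the localisation. -/
theorem prop_awayMap_iff (a : A)
    {P : ∀ {R S : Type u} [CommRing R] [CommRing S], (R →+* S) → Prop} (hP : RingHom.RespectsIso P) :
    P (Localization.awayMap (algebraMap A B) a) ↔
      P (algebraMap (Localization.Away a) (Localization.Away a ⊗[A] B)) := by
  let e := (IsLocalization.Away.tensorRightEquiv B a (Localization.Away a)).toRingEquiv
  have he : e.toRingHom.comp (algebraMap (Localization.Away a) (Localization.Away a ⊗[A] B)) =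
      Localization.awayMap (algebraMap A B) a := by
    apply IsLocalization.ringHom_ext (Submonoid.powers a)
    ext x
    simp [e, Localization.awayMap, IsLocalization.Away.map,
      Algebra.TensorProduct.tmul_one_eq_one_tmul]
    exact (IsLocalization.Away.tensorRightEquiv B a (Localization.Away a)).commutes (algebraMap A B x)
  refine ⟨fun h => ?_, fun h => he ▸ hP.1 _ e h⟩
  rw [← he] at h
  have := hP.1 _ e.symm h
  rwa [← RingHom.comp_assoc, RingEquiv.toRingHom_eq_coe, RingEquiv.toRingHom_eq_coe,
    RingEquiv.symm_comp, RingHom.id_comp] at this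

end Bridge

end Groth.Agent.GluePair

end
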