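import Mathlib
import Groth.Agent.GluePair.Algebra

/-!
# Properties of algebras detected by a glueing pair
-/

set_option autoImplicit false
set_option linter.unusedSectionVars false
universe u

open TensorProduct

noncomputable section

namespace Groth.Agent.GluePair

variable {A A' : Type u} [CommRing A] [CommRing A'] [Algebra A A'] {g : A}
  {B : Type u} [CommRing B] [Algebra A B]

lemma finite_localizedModule_of_tensor {M : Type u} [AddCommGroup M] [Module A M]
    (h : Module.Finite (Localization.Away g) (Localization.Away g ⊗[A] M)) :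
    Module.Finite (Localization.Away g) (LocalizedModule (Submonoid.powers g) M) :=
  Module.Finite.equiv (IsLocalizedModule.isBaseChange (Submonoid.powers g) (Localization.Away g)
    (LocalizedModule.mkLinearMap (Submonoid.powers g) M)).equiv

lemma flat_localizedModule_of_tensor {M : Type u} [AddCommGroup M] [Module A M]
    (h : Module.Flat (Localization.Away g) (Localization.Away g ⊗[A] M)) :
    Module.Flat A (LocalizedModule (Submonoid.powers g) M) :=
  (Module.flat_iff_of_isLocalization (Localization.Away g) (Submonoid.powers g) _).mp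
    (Module.Flat.of_linearEquiv (IsLocalizedModule.isBaseChange (Submonoid.powers g)
      (Localization.Away g) (LocalizedModule.mkLinearMap (Submonoid.powers g) M)).equiv.symm)

theorem surjective_algebraMap_of_baseChanges (hq : EtGlue.QuotPowBijective A A' g)
    (h' : Function.Surjective (algebraMap A' (A' ⊗[A] B)))
    (h₁ : Function.Surjective (algebraMap (Localization.Away g) (Localization.Away g ⊗[A] B))) :
    Function.Surjective (algebraMap A B) := by
  refine surjective_of_baseChanges hq (Algebra.linearMap A B) (fun x => ?_) (fun x => ?_)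
  · obtain ⟨y, rfl⟩ := h' x
    exact ⟨y ⊗ₜ 1, by simp⟩
  · obtain ⟨y, rfl⟩ := h₁ x
    exact ⟨y ⊗ₜ 1, by simp⟩

lemma range_map_mono (S : Type u) [CommRing S] [Algebra A S] {B₁ B₂ : Subalgebra A B} (h : B₁ ≤ B₂) :
    (Algebra.TensorProduct.map (AlgHom.id S S) B₁.val).range ≤
      (Algebra.TensorProduct.map (AlgHom.id S S) B₂.val).range := by
  have : (Algebra.TensorProduct.map (AlgHom.id S S) B₂.val).comp
      (Algebra.TensorProduct.map (AlgHom.id S S) (Subalgebra.inclusion h)) =
        Algebra.TensorProduct.map (AlgHom.id S S) B₁.val := by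
    rw [← Algebra.TensorProduct.map_comp]
    rfl
  rw [← this]
  exact AlgHom.range_comp_le_range _ _

lemma exists_mem_range_map (S : Type u) [CommRing S] [Algebra A S] (x : S ⊗[A] B) :
    ∃ B₀ : Subalgebra A B, B₀.FG ∧
      x ∈ (Algebra.TensorProduct.map (AlgHom.id S S) B₀.val).range := by
  induction x using TensorProduct.induction_on with
  | zero => exact ⟨⊥, Subalgebra.fg_bot, zero_mem _⟩
  | tmul s b =>
    exact ⟨Algebra.adjoin A {b}, Subalgebra.fg_def.mpr ⟨{b}, Set.finite_singleton b, rfl⟩,
      s ⊗ₜ ⟨b, Algebra.self_mem_adjoin_singleton A b⟩, rfl⟩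
  | add x y hx hy =>
    obtain ⟨B₁, h₁, hx⟩ := hx
    obtain ⟨B₂, h₂, hy⟩ := hy
    exact ⟨B₁ ⊔ B₂, h₁.sup h₂, add_mem (range_map_mono S le_sup_left hx)
      (range_map_mono S le_sup_right hy)⟩

lemma exists_surjective_map (S : Type u) [CommRing S] [Algebra A S]
    (h : Algebra.FiniteType S (S ⊗[A] B)) :
    ∃ B₀ : Subalgebra A B, B₀.FG ∧ ∀ B₁ : Subalgebra A B, B₀ ≤ B₁ →
      Function.Surjective (Algebra.TensorProduct.map (AlgHom.id S S) B₁.val) := by
  classical
  obtain ⟨s, hs⟩ := h.out
  choose C hC hx using fun x : S ⊗[A] B => exists_mem_range_map S x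
  refine ⟨s.sup C, Finset.sup_induction Subalgebra.fg_bot (fun _ h₁ _ h₂ => h₁.sup h₂) fun x _ => hC x,
    fun B₁ hB₁ => ?_⟩
  rw [← AlgHom.range_eq_top, eq_top_iff, ← hs, Algebra.adjoin_le_iff]
  intro x hxs
  exact range_map_mono S ((Finset.le_sup (f := C) hxs).trans hB₁) (hx x)

theorem finiteType_of_baseChanges (hq : EtGlue.QuotPowBijective A A' g)
    (h' : Algebra.FiniteType A' (A' ⊗[A] B))
    (h₁ : Algebra.FiniteType (Localization.Away g) (Localization.Away g ⊗[A] B)) :
    Algebra.FiniteType A B := by
  obtain ⟨C, hC, hC'⟩ := exists_surjective_map A' h'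
  obtain ⟨D, hD, hD'⟩ := exists_surjective_map (Localization.Away g) h₁
  have hsurj : Function.Surjective (C ⊔ D).val.toLinearMap :=
    surjective_of_baseChanges hq _ (hC' _ le_sup_left) (hD' _ le_sup_right)
  refine ⟨?_⟩
  convert hC.sup hD
  exact (eq_top_iff.mpr fun b _ => by obtain ⟨c, rfl⟩ := hsurj b; exact c.2).symm

attribute [local instance] Algebra.TensorProduct.rightAlgebra in
theorem subsingleton_kaehler_of_baseChanges (hq : EtGlue.QuotPowBijective A A' g)
    (h' : Algebra.FormallyUnramified A' (A' ⊗[A] B))
    (h₁ : Algebra.FormallyUnramified (Localization.Away g) (Localization.Away g ⊗[A] B)) :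
    Algebra.FormallyUnramified A B := by
  refine (Algebra.formallyUnramified_iff A B).mpr (subsingleton_of_baseChanges hq ?_ ?_)
  · exact (KaehlerDifferential.tensorKaehlerEquivBase A A' B (A' ⊗[A] B)).injective.subsingleton
  · exact (KaehlerDifferential.tensorKaehlerEquivBase A (Localization.Away g) B
      (Localization.Away g ⊗[A] B)).injective.subsingleton

section FinitePresentation

attribute [local instance] Algebra.TensorProduct.rightAlgebra

variable {P : Type u} [CommRing P] [Algebra A P] (S : Type u) [CommRing S] [Algebra A S]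
  (π : P →ₐ[A] B) (hπ : Function.Surjective π)
include hπ

/-- The kernel of a presentation stays finitely generated after base change, if the algebra is flat
and the base change is of finite presentation. -/
lemma finite_baseChange_ideal [Module.Flat A B] [Algebra.FinitePresentation S (S ⊗[A] B)]
    [Algebra.FinitePresentation S (S ⊗[A] P)] :
    Module.Finite (S ⊗[A] P) ((S ⊗[A] P) ⊗[P] RingHom.ker π.toRingHom) := by
  let K : Ideal P := RingHom.ker π.toRingHom
  let π₁ : S ⊗[A] P →ₐ[S] S ⊗[A] B := Algebra.TensorProduct.map (AlgHom.id S S) π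
  have hπ₁ : Function.Surjective π₁ := LinearMap.lTensor_surjective S (g := π.toLinearMap) hπ
  let ι : K →ₗ[A] P := K.subtype.restrictScalars A
  have hex : Function.Exact ι π.toLinearMap := fun y =>
    ⟨fun h => ⟨⟨y, h⟩, rfl⟩, by rintro ⟨k, rfl⟩; exact k.2⟩
  have hι : Function.Injective (ι.lTensor S) :=
    LinearMap.lTensor_injective_of_exact_of_flat π.toLinearMap hπ ι K.subtype_injective hex S
  let j : (S ⊗[A] P) ⊗[P] K →ₗ[S ⊗[A] P] S ⊗[A] P :=
    ((Algebra.linearMap P (S ⊗[A] P)).comp K.subtype).liftBaseChange (S ⊗[A] P)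
  let σ₀ : S →+ K →+ (S ⊗[A] P) ⊗[P] K :=
    { toFun := fun s =>
        { toFun := fun k => (s ⊗ₜ[A] (1 : P)) ⊗ₜ[P] k
          map_zero' := tmul_zero _ _
          map_add' := fun k k' => tmul_add _ _ _ }
      map_zero' := by
        ext k
        change ((0 : S) ⊗ₜ[A] (1 : P)) ⊗ₜ[P] k = 0
        rw [zero_tmul, zero_tmul]
      map_add' := fun s s' => by
        ext k
        change ((s + s') ⊗ₜ[A] (1 : P)) ⊗ₜ[P] k = _
        rw [add_tmul, add_tmul]
        rfl }
  let σ : S ⊗[A] K →+ (S ⊗[A] P) ⊗[P] K :=
    TensorProduct.liftAddHom σ₀ fun a s k => by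
      change ((a • s) ⊗ₜ[A] (1 : P)) ⊗ₜ[P] k = (s ⊗ₜ[A] (1 : P)) ⊗ₜ[P] (a • k)
      rw [← IsScalarTower.algebraMap_smul P a k, ← smul_tmul (algebraMap A P a),
        IsScalarTower.algebraMap_smul, TensorProduct.smul_tmul']
  have hσ : Function.Surjective σ := by
    intro z
    induction z using TensorProduct.induction_on with
    | zero => exact ⟨0, map_zero _⟩
    | add x y hx hy =>
      obtain ⟨a, rfl⟩ := hx
      obtain ⟨b, rfl⟩ := hy
      exact ⟨a + b, map_add _ _ _⟩
    | tmul x k =>
      induction x using TensorProduct.induction_on with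
      | zero => exact ⟨0, by simp⟩
      | add x y hx hy =>
        obtain ⟨a, ha⟩ := hx
        obtain ⟨b, hb⟩ := hy
        exact ⟨a + b, by rw [map_add, ha, hb, add_tmul]⟩
      | tmul s p =>
        refine ⟨s ⊗ₜ (p • k), ?_⟩
        change (s ⊗ₜ[A] (1 : P)) ⊗ₜ[P] (p • k) = _
        rw [← smul_tmul, Algebra.smul_def, Algebra.TensorProduct.algebraMap_eq_includeRight]
        simp
  have hjσ : ∀ z, j (σ z) = ι.lTensor S z := by
    intro z
    induction z using TensorProduct.induction_on with
    | zero => simp
    | add x y hx hy => rw [map_add, map_add, map_add, hx, hy]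
    | tmul s k =>
      change j ((s ⊗ₜ[A] (1 : P)) ⊗ₜ[P] k) = s ⊗ₜ[A] (k : P)
      simp [j, Algebra.TensorProduct.algebraMap_eq_includeRight]
  have hj : Function.Injective j := by
    rw [injective_iff_map_eq_zero]
    intro z hz
    obtain ⟨w, rfl⟩ := hσ z
    rw [hjσ] at hz
    rw [hι (hz.trans (map_zero _).symm), map_zero]
  have hrange : LinearMap.range j = RingHom.ker π₁.toRingHom := by
    have hex₁ := lTensor_exact (M := K) S hex hπ
    ext z
    constructor
    · rintro ⟨w, rfl⟩
      obtain ⟨v, rfl⟩ := hσ w
      rw [hjσ]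
      exact hex₁.apply_apply_eq_zero v
    · intro hz
      obtain ⟨v, rfl⟩ := (hex₁ z).mp hz
      exact ⟨σ v, hjσ v⟩
  have hfg : (LinearMap.range j).FG :=
    hrange ▸ Algebra.FinitePresentation.ker_fG_of_surjective π₁ hπ₁
  have : Module.Finite (S ⊗[A] P) (LinearMap.range j) := Module.Finite.iff_fg.mpr hfg
  exact Module.Finite.equiv (LinearEquiv.ofInjective j hj).symm

end FinitePresentation

attribute [local instance] Algebra.TensorProduct.rightAlgebra in
theorem finitePresentation_of_baseChanges (hq : EtGlue.QuotPowBijective A A' g) [Module.Flat A B]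
    (h' : Algebra.FinitePresentation A' (A' ⊗[A] B))
    (h₁ : Algebra.FinitePresentation (Localization.Away g) (Localization.Away g ⊗[A] B)) :
    Algebra.FinitePresentation A B := by
  have hft := finiteType_of_baseChanges hq inferInstance inferInstance (B := B)
  obtain ⟨n, π, hπ⟩ := Algebra.FiniteType.iff_quotient_mvPolynomial''.mp hft
  have hK' := finite_baseChange_ideal A' π hπ
  have hK₁ := finite_baseChange_ideal (Localization.Away g) π hπ
  have hK₂ : Module.Finite (Localization.Away (algebraMap A (MvPolynomial (Fin n) A) g))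
      (LocalizedModule (Submonoid.powers (algebraMap A (MvPolynomial (Fin n) A) g)) (RingHom.ker π.toRingHom)) := by
    let e := IsLocalization.Away.tensorRightEquiv (MvPolynomial (Fin n) A) g (Localization.Away g)
    let l := IsLocalizedModule.isBaseChange (Submonoid.powers (algebraMap A (MvPolynomial (Fin n) A) g))
      (Localization.Away (algebraMap A (MvPolynomial (Fin n) A) g))
      (LocalizedModule.mkLinearMap (Submonoid.powers (algebraMap A (MvPolynomial (Fin n) A) g)) (RingHom.ker π.toRingHom))
    let T : (Localization.Away g ⊗[A] MvPolynomial (Fin n) A) ⊗[MvPolynomial (Fin n) A] RingHom.ker π.toRingHom →ₛₗ[e.toRingEquiv.toRingHom]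
        LocalizedModule (Submonoid.powers (algebraMap A (MvPolynomial (Fin n) A) g)) (RingHom.ker π.toRingHom) :=
      { toFun := fun z => l.equiv (TensorProduct.map e.toLinearMap LinearMap.id z)
        map_add' := fun x y => by rw [map_add, map_add]
        map_smul' := fun c z => by
          refine (congrArg l.equiv ?_).trans (map_smul l.equiv (e c) _)
          induction z using TensorProduct.induction_on with
          | zero => rw [smul_zero, map_zero, smul_zero]
          | add x y hx hy => simp only [smul_add, map_add, hx, hy]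
          | tmul x k =>
            change (e (c * x)) ⊗ₜ[MvPolynomial (Fin n) A] k = (e c * e x) ⊗ₜ[MvPolynomial (Fin n) A] k
            rw [map_mul] }
    have hT : Function.Surjective T :=
      l.equiv.surjective.comp (TensorProduct.map_surjective e.surjective Function.surjective_id)
    have : RingHomSurjective e.toRingEquiv.toRingHom := ⟨e.surjective⟩
    refine ⟨?_⟩
    rw [← LinearMap.range_eq_top.mpr hT, ← Submodule.map_top]
    exact hK₁.fg_top.map T
  have := finite_of_quot (quotPowBijective_baseChange (A := MvPolynomial (Fin n) A) hq) hK' hK₂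
  exact Algebra.FinitePresentation.of_surjective hπ (Module.Finite.iff_fg.mp this)

end Groth.Agent.GluePair

end
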