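import Mathlib
import Groth.Prelude.Def_EtGlue

/-!
# Flat ring maps which do not change the quotient by an ideal
-/

set_option autoImplicit false
set_option linter.unusedSectionVars false
universe u

open TensorProduct

noncomputable section

namespace Groth.Agent.GluePair

variable {R S : Type u} [CommRing R] [CommRing S] [Algebra R S] {I : Ideal R}

/-- Every element is killed by a power of `I`. -/
def ITors (I : Ideal R) (M : Type u) [AddCommGroup M] [Module R M] : Prop :=
  ∀ m : M, ∃ n : ℕ, ∀ a ∈ I ^ n, a • m = 0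

variable (hq : Function.Bijective
  (Ideal.quotientMap (Ideal.map (algebraMap R S) I) (algebraMap R S) Ideal.le_comap_map))
include hq

lemma bijective_mk_of_smul_eq_zero (M : Type u) [AddCommGroup M] [Module R M]
    (hM : ∀ a ∈ I, ∀ m : M, a • m = 0) : Function.Bijective (TensorProduct.mk R S M 1) := by
  let e := RingEquiv.ofBijective _ hq
  let σ : S → R ⧸ I := fun s => e.symm (Ideal.Quotient.mk _ s)
  have hσ : ∀ (s : S) (r : R), σ s = Ideal.Quotient.mk I r ↔
      s - algebraMap R S r ∈ Ideal.map (algebraMap R S) I := fun s r => by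
    rw [RingEquiv.symm_apply_eq]
    change Ideal.Quotient.mk _ s = Ideal.quotientMap _ (algebraMap R S) Ideal.le_comap_map (Ideal.Quotient.mk I r) ↔ _
    rw [Ideal.quotientMap_mk, Ideal.Quotient.mk_eq_mk_iff_sub_mem]
  have hI : (I • ⊤ : Submodule R M) = ⊥ :=
    eq_bot_iff.mpr (Submodule.smul_le.mpr fun a ha m _ => (Submodule.mem_bot R).mpr (hM a ha m))
  let σl : S →ₗ[R] R ⧸ I :=
    { toFun := σ
      map_add' := fun x y => by simp only [σ, map_add]
      map_smul' := fun c x => by
        obtain ⟨r, hr⟩ := Ideal.Quotient.mk_surjective (σ x)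
        rw [RingHom.id_apply, ← hr, Algebra.smul_def c (Ideal.Quotient.mk I r),
          Ideal.Quotient.algebraMap_eq, ← map_mul, hσ, map_mul, Algebra.smul_def, ← mul_sub]
        exact Ideal.mul_mem_left _ _ ((hσ x r).mp hr.symm) }
  let χ : S ⊗[R] M →ₗ[R] M ⧸ (I • ⊤ : Submodule R M) :=
    (quotTensorEquivQuotSMul M I).toLinearMap ∘ₗ σl.rTensor M
  constructor
  · intro m m' h
    have h' : ∀ x : M, χ ((1 : S) ⊗ₜ x) = Submodule.Quotient.mk x := fun x => by
      have h1 : σ 1 = Ideal.Quotient.mk I 1 := (hσ _ _).mpr (by simp)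
      change quotTensorEquivQuotSMul M I (σ 1 ⊗ₜ x) = _
      rw [h1, quotTensorEquivQuotSMul_mk_tmul, one_smul]
    have := congrArg χ h
    rw [TensorProduct.mk_apply, TensorProduct.mk_apply, h', h', Submodule.Quotient.eq, hI,
      Submodule.mem_bot, sub_eq_zero] at this
    exact this
  · intro z
    induction z using TensorProduct.induction_on with
    | zero => exact ⟨0, map_zero _⟩
    | add x y hx hy =>
      obtain ⟨a, rfl⟩ := hx
      obtain ⟨b, rfl⟩ := hy
      exact ⟨a + b, map_add _ _ _⟩
    | tmul s m =>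
      obtain ⟨r, hr⟩ := Ideal.Quotient.mk_surjective (σ s)
      refine ⟨r • m, ?_⟩
      have h0 : ∀ t ∈ Ideal.map (algebraMap R S) I, t ⊗ₜ[R] m = (0 : S ⊗[R] M) := by
        intro t ht
        induction ht using Submodule.span_induction with
        | mem x hx =>
          obtain ⟨a, ha, rfl⟩ := hx
          rw [Algebra.algebraMap_eq_smul_one, smul_tmul, hM a ha, tmul_zero]
        | zero => exact zero_tmul _ _
        | add x y _ _ hx hy => rw [add_tmul, hx, hy, add_zero]
        | smul c x _ hx =>
          rw [← TensorProduct.smul_tmul', hx, smul_zero]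
      have := h0 _ ((hσ s r).mp hr.symm)
      rw [sub_tmul, sub_eq_zero, Algebra.algebraMap_eq_smul_one, smul_tmul] at this
      rw [TensorProduct.mk_apply, this]

variable [Module.Flat R S]

lemma bijective_mk_of_pow_smul_eq_zero (k : ℕ) : ∀ (M : Type u) [AddCommGroup M] [Module R M],
    (∀ a ∈ I ^ k, ∀ m : M, a • m = 0) → Function.Bijective (TensorProduct.mk R S M 1) := by
  induction k with
  | zero =>
    intro M _ _ hM
    exact bijective_mk_of_smul_eq_zero hq M fun a _ m =>
      hM a (by rw [pow_zero, Ideal.one_eq_top]; exact Submodule.mem_top) m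
  | succ k ih =>
    intro M _ _ hM
    let N : Submodule R M := I • ⊤
    have h0 : ∀ a ∈ I ^ k, ∀ x ∈ N, a • x = 0 := fun a ha x hx => by
      induction hx using Submodule.smul_induction_on' with
      | smul b hb m _ =>
        rw [smul_smul]
        exact hM _ (by rw [pow_succ]; exact Ideal.mul_mem_mul ha hb) m
      | add x _ y _ hx hy => rw [smul_add, hx, hy, add_zero]
    have hN := ih N fun a ha n => Subtype.ext (h0 a ha n n.2)
    have hQ := bijective_mk_of_smul_eq_zero hq (M ⧸ N) fun a ha q => by
      obtain ⟨m, rfl⟩ := Submodule.Quotient.mk_surjective N q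
      rw [← Submodule.Quotient.mk_smul, Submodule.Quotient.mk_eq_zero]
      exact Submodule.smul_mem_smul ha trivial
    constructor
    · rw [injective_iff_map_eq_zero]
      intro m hm
      have h1 : N.mkQ m = 0 := hQ.1 (by
        rw [map_zero, TensorProduct.mk_apply, ← LinearMap.lTensor_tmul, ← TensorProduct.mk_apply, hm,
          map_zero])
      rw [Submodule.mkQ_apply, Submodule.Quotient.mk_eq_zero] at h1
      have h2 : (⟨m, h1⟩ : N) = 0 := hN.1 (Module.Flat.lTensor_preserves_injective_linearMap
        N.subtype N.subtype_injective (by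
          rw [map_zero, map_zero, TensorProduct.mk_apply, LinearMap.lTensor_tmul]
          exact hm))
      exact congrArg Subtype.val h2
    · intro z
      obtain ⟨q, hq'⟩ := hQ.2 (N.mkQ.lTensor S z)
      obtain ⟨m, rfl⟩ := N.mkQ_surjective q
      obtain ⟨w, hw⟩ := (lTensor_exact (M := N) S (LinearMap.exact_subtype_mkQ N) N.mkQ_surjective
        (z - (1 : S) ⊗ₜ m)).mp (by
          rw [map_sub, LinearMap.lTensor_tmul, ← hq', TensorProduct.mk_apply, sub_self])
      obtain ⟨n, rfl⟩ := hN.2 w
      refine ⟨m + n, ?_⟩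
      rw [map_add, TensorProduct.mk_apply]
      rw [TensorProduct.mk_apply, LinearMap.lTensor_tmul, Submodule.subtype_apply] at hw
      rw [TensorProduct.mk_apply, hw, add_sub_cancel]

/-- A module killed by powers of `I` does not change under the base change. -/
theorem bijective_mk_of_iTors (M : Type u) [AddCommGroup M] [Module R M] (hM : ITors I M) :
    Function.Bijective (TensorProduct.mk R S M 1) := by
  have key : ∀ m : M, Function.Bijective
      (TensorProduct.mk R S (Submodule.span R {m}) 1) := fun m => by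
    obtain ⟨n, hn⟩ := hM m
    refine bijective_mk_of_pow_smul_eq_zero hq n _ fun a ha x => Subtype.ext ?_
    obtain ⟨c, hc⟩ := Submodule.mem_span_singleton.mp x.2
    rw [Submodule.coe_smul, ← hc, smul_comm, hn a ha, smul_zero]
    rfl
  constructor
  · rw [injective_iff_map_eq_zero]
    intro m hm
    have h2 : (⟨m, Submodule.mem_span_singleton_self m⟩ : Submodule.span R {m}) = 0 :=
      (key m).1 (Module.Flat.lTensor_preserves_injective_linearMap
        (Submodule.span R {m}).subtype (Submodule.subtype_injective _) (by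
          rw [map_zero, map_zero, TensorProduct.mk_apply, LinearMap.lTensor_tmul]
          exact hm))
    exact congrArg Subtype.val h2
  · intro z
    induction z using TensorProduct.induction_on with
    | zero => exact ⟨0, map_zero _⟩
    | add x y hx hy =>
      obtain ⟨a, rfl⟩ := hx
      obtain ⟨b, rfl⟩ := hy
      exact ⟨a + b, map_add _ _ _⟩
    | tmul s m =>
      obtain ⟨x, hx⟩ := (key m).2 (s ⊗ₜ ⟨m, Submodule.mem_span_singleton_self m⟩)
      exact ⟨x, congrArg ((Submodule.span R {m}).subtype.lTensor S) hx⟩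

/-- A module over `S` with all elements killed by powers of `I` is its own base change. -/
lemma bijective_lift_of_iTors (M : Type u) [AddCommGroup M] [Module R M] [Module S M]
    [IsScalarTower R S M] (hM : ITors I M) :
    Function.Bijective ((LinearMap.id : M →ₗ[R] M).liftBaseChange S) := by
  have h := bijective_mk_of_iTors hq M hM
  have hid : ∀ m, (LinearMap.id : M →ₗ[R] M).liftBaseChange S (TensorProduct.mk R S M 1 m) = m :=
    fun m => by simp
  constructor
  · intro x y hxy
    obtain ⟨a, rfl⟩ := h.2 x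
    obtain ⟨b, rfl⟩ := h.2 y
    rw [hid, hid] at hxy
    rw [hxy]
  · exact fun m => ⟨_, hid m⟩

/-- Glueing a module from a map with torsion kernel and cokernel. -/
theorem exists_descend_hom (N : Type u) [AddCommGroup N] [Module R N] (M' : Type u) [AddCommGroup M']
    [Module S M'] (φ : M' →ₗ[S] S ⊗[R] N)
    (hker : ∀ x : M', φ x = 0 → ∃ n : ℕ, ∀ a ∈ I ^ n, algebraMap R S a • x = 0)
    (hcoker : ∀ y : S ⊗[R] N, ∃ n : ℕ, ∀ a ∈ I ^ n, algebraMap R S a • y ∈ LinearMap.range φ) :
    ∃ (M : Type u) (_ : AddCommGroup M) (_ : Module R M) (ψ : M →ₗ[R] N) (e : S ⊗[R] M ≃ₗ[S] M'),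
      φ ∘ₗ e.toLinearMap = ψ.baseChange S := by
  let : Module R M' := Module.compHom M' (algebraMap R S)
  have : IsScalarTower R S M' := IsScalarTower.of_algebraMap_smul fun _ _ => rfl
  let φR : M' →ₗ[R] S ⊗[R] N := φ.restrictScalars R
  let M : Submodule R (M' × N) := LinearMap.eqLocus (φR ∘ₗ LinearMap.fst R M' N)
    (TensorProduct.mk R S N 1 ∘ₗ LinearMap.snd R M' N)
  let p : M →ₗ[R] M' := LinearMap.fst R M' N ∘ₗ M.subtype
  let ψ : M →ₗ[R] N := LinearMap.snd R M' N ∘ₗ M.subtype
  let e₀ : S ⊗[R] M →ₗ[S] M' := p.liftBaseChange S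
  have hcomp : φ ∘ₗ e₀ = ψ.baseChange S := by
    apply TensorProduct.AlgebraTensorModule.ext
    intro s x
    rw [LinearMap.comp_apply, LinearMap.liftBaseChange_tmul, map_smul, LinearMap.baseChange_tmul,
      show φ (p x) = (1 : S) ⊗ₜ[R] ψ x from x.2, TensorProduct.smul_tmul', smul_eq_mul, mul_one]
  let K : Submodule R M' := (LinearMap.ker φ).restrictScalars R
  let ι : K →ₗ[R] M := LinearMap.codRestrict M (LinearMap.inl R M' N ∘ₗ K.subtype) fun k => by
    change φ (k : M') = (1 : S) ⊗ₜ[R] (0 : N)
    rw [tmul_zero]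
    exact k.2
  have hK : ITors I K := fun k => by
    obtain ⟨n, hn⟩ := hker k k.2
    exact ⟨n, fun a ha => Subtype.ext (hn a ha)⟩
  have hexι : Function.Exact ι ψ := by
    intro x
    constructor
    · intro hx
      have hx' : φ (p x) = 0 := by
        rw [show φ (p x) = (1 : S) ⊗ₜ[R] ψ x from x.2, hx, tmul_zero]
      exact ⟨⟨p x, hx'⟩, Subtype.ext (Prod.ext rfl hx.symm)⟩
    · rintro ⟨k, rfl⟩
      rfl
  have hinj : Function.Injective e₀ := by
    rw [injective_iff_map_eq_zero]
    intro z hz
    have hz' : ψ.lTensor S z = 0 := by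
      change ψ.baseChange S z = 0
      rw [← hcomp, LinearMap.comp_apply, hz, map_zero]
    obtain ⟨w, rfl⟩ := (Module.Flat.lTensor_exact S hexι z).mp hz'
    obtain ⟨k, rfl⟩ := (bijective_mk_of_iTors hq K hK).2 w
    rw [TensorProduct.mk_apply, LinearMap.lTensor_tmul, LinearMap.liftBaseChange_tmul, one_smul] at hz
    rw [show k = 0 from Subtype.ext hz, map_zero, map_zero]
  have hsurj : Function.Surjective e₀ := by
    intro a
    let C := (S ⊗[R] N) ⧸ LinearMap.range φ
    let π : N →ₗ[R] C := ((LinearMap.range φ).mkQ.restrictScalars R) ∘ₗ TensorProduct.mk R S N 1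
    have hC : ITors I C := fun c => by
      obtain ⟨y, rfl⟩ := Submodule.Quotient.mk_surjective _ c
      obtain ⟨n, hn⟩ := hcoker y
      refine ⟨n, fun b hb => ?_⟩
      rw [← IsScalarTower.algebraMap_smul S b, ← Submodule.Quotient.mk_smul,
        Submodule.Quotient.mk_eq_zero]
      exact hn b hb
    have hexψ : Function.Exact ψ π := by
      intro n
      rw [LinearMap.comp_apply, LinearMap.restrictScalars_apply, Submodule.mkQ_apply,
        Submodule.Quotient.mk_eq_zero]
      constructor
      · rintro ⟨b, hb⟩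
        exact ⟨⟨(b, n), hb⟩, rfl⟩
      · rintro ⟨x, rfl⟩
        exact ⟨p x, x.2⟩
    have hπ : ∀ y : S ⊗[R] N, (LinearMap.id : C →ₗ[R] C).liftBaseChange S (π.lTensor S y) =
        Submodule.Quotient.mk y := fun y => by
      induction y using TensorProduct.induction_on with
      | zero => simp
      | add u v hu hv => rw [map_add, map_add, hu, hv]; rfl
      | tmul s n =>
        rw [LinearMap.lTensor_tmul, LinearMap.liftBaseChange_tmul, LinearMap.id_apply]
        change s • Submodule.Quotient.mk ((1 : S) ⊗ₜ[R] n) = _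
        rw [← Submodule.Quotient.mk_smul, TensorProduct.smul_tmul', smul_eq_mul, mul_one]
    have h0 : π.lTensor S (φ a) = 0 := (bijective_lift_of_iTors hq C hC).1 (by
      rw [hπ, map_zero]
      exact (Submodule.Quotient.mk_eq_zero _).mpr ⟨a, rfl⟩)
    obtain ⟨z, hz⟩ := (Module.Flat.lTensor_exact S hexψ (φ a)).mp h0
    have hk : φ (a - e₀ z) = 0 := by
      rw [map_sub, sub_eq_zero, ← LinearMap.comp_apply, hcomp]
      exact hz.symm
    refine ⟨z + (1 : S) ⊗ₜ[R] ι ⟨a - e₀ z, hk⟩, ?_⟩
    rw [map_add, LinearMap.liftBaseChange_tmul, one_smul]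
    exact add_sub_cancel _ _
  exact ⟨M, inferInstance, inferInstance, ψ, LinearEquiv.ofBijective e₀ ⟨hinj, hsurj⟩, hcomp⟩

end Groth.Agent.GluePair

end
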