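import Mathlib
import Groth.Prelude.Def_EtGlue
import Groth.Agent.GluePair.FlatPair

/-!
# The glueing complex of a flat ring map for several elements
-/

set_option autoImplicit false
set_option linter.unusedSectionVars false
universe u

open TensorProduct

noncomputable section

namespace Groth.Agent.GluePair

variable {R S : Type u} [CommRing R] [CommRing S] [Algebra R S] {t : ℕ} {f : Fin t → R}
  (M : Type u) [AddCommGroup M] [Module R M]

/-- Killed by powers of each generator means killed by a power of the ideal. -/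
lemma iTors_of_forall (C : Type u) [AddCommGroup C] [Module R C]
    (h : ∀ (c : C) (i : Fin t), ∃ n : ℕ, f i ^ n • c = 0) :
    ITors (Ideal.span (Set.range f)) C := by
  intro c
  have hle : Ideal.span (Set.range f) ≤
      Ideal.radical (LinearMap.ker (LinearMap.toSpanSingleton R C c) : Ideal R) := by
    rw [Ideal.span_le]
    rintro _ ⟨i, rfl⟩
    obtain ⟨n, hn⟩ := h c i
    exact ⟨n, hn⟩
  obtain ⟨n, hn⟩ := Ideal.exists_pow_le_of_le_radical_of_fg hle
    (Submodule.fg_span (Set.finite_range f))
  exact ⟨n, fun a ha => hn ha⟩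

variable [Module.Flat R S]
  (hq : Function.Bijective (Ideal.quotientMap (Ideal.map (algebraMap R S) (Ideal.span (Set.range f)))
    (algebraMap R S) Ideal.le_comap_map))
include hq

/-- An element killed in the base change and in all localisations is zero. -/
theorem eq_zero_of_tmul_of_loc (m : M) (h₁ : (1 : S) ⊗ₜ[R] m = 0)
    (h₂ : ∀ i, LocalizedModule.mkLinearMap (Submonoid.powers (f i)) M m = 0) : m = 0 := by
  let T : Submodule R M := Submodule.span R {m}
  have hT : ITors (Ideal.span (Set.range f)) T := iTors_of_forall T fun c i => by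
    obtain ⟨r, hr⟩ := Submodule.mem_span_singleton.mp c.2
    obtain ⟨⟨_, n, rfl⟩, hn⟩ := (IsLocalizedModule.eq_zero_iff (Submonoid.powers (f i))
      (LocalizedModule.mkLinearMap (Submonoid.powers (f i)) M)).mp (h₂ i)
    refine ⟨n, Subtype.ext ?_⟩
    rw [Submonoid.smul_def] at hn
    rw [Submodule.coe_smul, ← hr, smul_comm, hn, smul_zero]
    rfl
  have h0 : (⟨m, Submodule.mem_span_singleton_self m⟩ : T) = 0 :=
    (bijective_mk_of_iTors hq T hT).1 (Module.Flat.lTensor_preserves_injective_linearMap
      T.subtype T.subtype_injective (by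
        rw [map_zero, map_zero, TensorProduct.mk_apply, LinearMap.lTensor_tmul]
        exact h₁))
  exact congrArg Subtype.val h0

/-- The glueing complex is exact in the middle. -/
theorem exists_of_compatible (x : S ⊗[R] M) (N : ℕ) (m : Fin t → M)
    (hx : ∀ i : Fin t, EtGlue.locOfTensor R S (f i) M x =
      EtGlue.tensorOfLoc R S (f i) M (LocalizedModule.mk (m i)
        ⟨f i ^ N, Submonoid.pow_mem _ (Submonoid.mem_powers (f i)) N⟩))
    (hm : ∀ i j : Fin t, ∃ e : ℕ, (f i * f j) ^ e • (f j ^ N • m i - f i ^ N • m j) = 0) :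
    ∃ μ : M, (1 : S) ⊗ₜ[R] μ = x ∧
      ∀ i : Fin t, LocalizedModule.mkLinearMap (Submonoid.powers (f i)) M μ =
        LocalizedModule.mk (m i) ⟨f i ^ N, Submonoid.pow_mem _ (Submonoid.mem_powers (f i)) N⟩ := by
  classical
  let Mi := fun i => LocalizedModule (Submonoid.powers (f i)) M
  let l : M →ₗ[R] (i : Fin t) → Mi i :=
    LinearMap.pi fun i => LocalizedModule.mkLinearMap (Submonoid.powers (f i)) M
  let e : (i : Fin t) → Mi i := fun i =>
    LocalizedModule.mk (m i) ⟨f i ^ N, Submonoid.pow_mem _ (Submonoid.mem_powers (f i)) N⟩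
  have hunit : ∀ (i : Fin t) (n : ℕ) (P : Type u) [AddCommGroup P] [Module R P] (g : M →ₗ[R] P)
      [IsLocalizedModule (Submonoid.powers (f i)) g] (a b : P), f i ^ n • a = f i ^ n • b → a = b :=
    fun i n P _ _ g _ a b h => (IsLocalizedModule.smul_inj g
      (⟨f i ^ n, n, rfl⟩ : Submonoid.powers (f i)) a b).mp h
  have he : ∀ i, f i ^ N • e i = LocalizedModule.mkLinearMap (Submonoid.powers (f i)) M (m i) :=
    fun i => by
      rw [LocalizedModule.smul'_mk, LocalizedModule.mkLinearMap_apply, LocalizedModule.mk_eq]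
      exact ⟨1, by simp [Submonoid.smul_def]⟩
  let E : Submodule R ((i : Fin t) → Mi i) := LinearMap.range l ⊔ Submodule.span R {e}
  let lE : M →ₗ[R] E := LinearMap.codRestrict E l fun y => Submodule.mem_sup_left ⟨y, rfl⟩
  let eE : E := ⟨e, Submodule.mem_sup_right (Submodule.mem_span_singleton_self e)⟩
  let C := E ⧸ LinearMap.range lE
  have hgen : ∀ c : C, ∃ r : R, c = r • Submodule.Quotient.mk eE := fun c => by
    obtain ⟨⟨y, hy⟩, rfl⟩ := Submodule.Quotient.mk_surjective _ c
    obtain ⟨_, ⟨a, rfl⟩, b, hb, rfl⟩ := Submodule.mem_sup.mp hy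
    obtain ⟨r, rfl⟩ := Submodule.mem_span_singleton.mp hb
    refine ⟨r, ?_⟩
    rw [← Submodule.Quotient.mk_smul, Submodule.Quotient.eq]
    exact ⟨a, Subtype.ext (by simp [lE, eE])⟩
  have hC : ITors (Ideal.span (Set.range f)) C := iTors_of_forall C fun c i => by
    choose k hk using hm i
    refine ⟨N + Finset.univ.sup k, ?_⟩
    obtain ⟨r, rfl⟩ := hgen c
    rw [smul_comm, ← Submodule.Quotient.mk_smul, (Submodule.Quotient.mk_eq_zero _).mpr, smul_zero]
    refine ⟨f i ^ Finset.univ.sup k • m i, Subtype.ext (funext fun j => ?_)⟩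
    change LocalizedModule.mkLinearMap (Submonoid.powers (f j)) M (f i ^ Finset.univ.sup k • m i) =
      f i ^ (N + Finset.univ.sup k) • e j
    obtain ⟨d, hd⟩ := Nat.exists_eq_add_of_le (Finset.le_sup (f := k) (Finset.mem_univ j))
    apply hunit j (N + k j) (Mi j) (LocalizedModule.mkLinearMap (Submonoid.powers (f j)) M)
    rw [show f j ^ (N + k j) • f i ^ (N + Finset.univ.sup k) • e j =
        f i ^ (N + Finset.univ.sup k) • f j ^ k j • (f j ^ N • e j) by
      simp only [smul_smul]; congr 1; ring, he, ← map_smul, ← map_smul, ← map_smul]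
    congr 1
    rw [← sub_eq_zero]
    have := congrArg (fun z => f i ^ d • z) (hk j)
    simp only [smul_zero] at this
    rw [← this, hd, smul_sub, smul_sub]
    simp only [smul_smul]
    congr 1 <;> congr 1 <;> ring
  have hex : Function.Exact lE (LinearMap.range lE).mkQ := LinearMap.exact_map_mkQ_range lE
  -- the image of `x` and `1 ⊗ e` agree
  have hxe : lE.lTensor S x = (1 : S) ⊗ₜ[R] eE := by
    apply Module.Flat.lTensor_preserves_injective_linearMap E.subtype E.subtype_injective
    apply (TensorProduct.piRight R R S Mi).injective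
    funext i
    rw [LinearMap.lTensor_tmul, TensorProduct.piRight_apply, TensorProduct.piRight_apply,
      TensorProduct.piRightHom_tmul, ← LinearMap.lTensor_comp_apply]
    let g := LocalizedModule.mkLinearMap (Submonoid.powers (f i)) M
    have hu : ∀ z : Submonoid.powers (f i),
        IsUnit ((algebraMap R (Module.End R (S ⊗[R] Mi i))) z) := fun z => by
      rw [Module.End.isUnit_iff]
      let ev := LinearEquiv.ofBijective (algebraMap R (Module.End R (Mi i)) z)
        ((Module.End.isUnit_iff _).mp (IsLocalizedModule.map_units g z))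
      have hev : (algebraMap R (Module.End R (S ⊗[R] Mi i)) z : S ⊗[R] Mi i →ₗ[R] S ⊗[R] Mi i) =
          (TensorProduct.congr (LinearEquiv.refl R S) ev).toLinearMap :=
        TensorProduct.ext' fun s y => by simp [ev, TensorProduct.tmul_smul]
      rw [hev]
      exact (TensorProduct.congr (LinearEquiv.refl R S) ev).bijective
    let Λ : LocalizedModule (Submonoid.powers (f i)) (S ⊗[R] M) →ₗ[R] S ⊗[R] Mi i :=
      IsLocalizedModule.lift (Submonoid.powers (f i))
        (LocalizedModule.mkLinearMap (Submonoid.powers (f i)) (S ⊗[R] M)) (g.lTensor S) hu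
    have h1 : ∀ z, Λ (LocalizedModule.mkLinearMap (Submonoid.powers (f i)) (S ⊗[R] M) z) = g.lTensor S z :=
      IsLocalizedModule.lift_apply _ _ _ _
    have h2 : Λ ∘ₗ EtGlue.tensorOfLoc R S (f i) M = TensorProduct.mk R S (Mi i) 1 := by
      refine IsLocalizedModule.ext (Submonoid.powers (f i)) g (fun z => hu z) (LinearMap.ext fun y => ?_)
      rw [LinearMap.comp_apply, LinearMap.comp_apply, EtGlue.tensorOfLoc, IsLocalizedModule.map_apply, h1]
      rfl
    have h3 := congrArg Λ (hx i)
    rw [← LinearMap.comp_apply Λ (EtGlue.tensorOfLoc R S (f i) M), h2, h1] at h3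
    have h4 : ∀ z : S ⊗[R] M, TensorProduct.piRightHom R R S Mi ((E.subtype ∘ₗ lE).lTensor S z) i =
        g.lTensor S z := fun z => by
      induction z using TensorProduct.induction_on with
      | zero => simp
      | add a b ha hb => simp only [map_add, Pi.add_apply, ha, hb]
      | tmul s y =>
        simp [lE, l, g]
        rfl
    rw [h4]
    exact h3
  have hclass : (LinearMap.range lE).mkQ eE = 0 := (bijective_mk_of_iTors hq C hC).1 (by
    rw [map_zero, TensorProduct.mk_apply, ← LinearMap.lTensor_tmul, ← hxe,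
      ← LinearMap.lTensor_comp_apply, hex.linearMap_comp_eq_zero, LinearMap.lTensor_zero,
      LinearMap.zero_apply])
  obtain ⟨μ₀, hμ₀⟩ := (hex eE).mp hclass
  let T : Submodule R M := LinearMap.ker lE
  have hT : ITors (Ideal.span (Set.range f)) T := iTors_of_forall T fun c i => by
    have hc : LocalizedModule.mkLinearMap (Submonoid.powers (f i)) M c = 0 :=
      congrFun (congrArg Subtype.val (LinearMap.mem_ker.mp c.2)) i
    obtain ⟨⟨_, n, rfl⟩, hn⟩ := (IsLocalizedModule.eq_zero_iff (Submonoid.powers (f i))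
      (LocalizedModule.mkLinearMap (Submonoid.powers (f i)) M)).mp hc
    exact ⟨n, Subtype.ext hn⟩
  obtain ⟨w, hw⟩ := (Module.Flat.lTensor_exact S (LinearMap.exact_subtype_ker_map lE)
    (x - (1 : S) ⊗ₜ[R] μ₀)).mp (by
      rw [map_sub, hxe, LinearMap.lTensor_tmul, hμ₀, sub_self])
  obtain ⟨τ, rfl⟩ := (bijective_mk_of_iTors hq T hT).2 w
  rw [TensorProduct.mk_apply, LinearMap.lTensor_tmul, Submodule.subtype_apply] at hw
  refine ⟨μ₀ + τ, by rw [tmul_add, hw, add_sub_cancel], fun i => ?_⟩
  have h := congrFun (congrArg Subtype.val (show lE (μ₀ + τ) = eE by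
    rw [map_add, hμ₀, LinearMap.mem_ker.mp τ.2, add_zero])) i
  exact h

end Groth.Agent.GluePair

end
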