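import Mathlib
import Groth.Agent.GluePair.Glue

/-!
# Glueing of algebras along a glueing pair
-/

set_option autoImplicit false
set_option linter.unusedSectionVars false
universe u

open TensorProduct

noncomputable section

namespace Groth.Agent.GluePair

/-- Glueing data of algebras is realised by a glueable algebra. -/
theorem Pair.exists_glue_algebra {R R' : Type u} [CommRing R] [CommRing R'] [Algebra R R'] {f : R}
    (H : Pair R' f) (A₁ : Type u) [CommRing A₁] [Algebra R A₁] (h₁ : IsUnit (algebraMap R A₁ f))
    (A' : Type u) [CommRing A'] [Algebra R A'] [Algebra R' A'] [IsScalarTower R R' A']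
    (φ : Localization.Away (algebraMap R A' f) ≃ₐ[R'] R' ⊗[R] A₁) :
    ∃ (A : Subalgebra R (A' × A₁)), EtGlue.IsGlueable R R' f A ∧
      ∃ (e₁ : Localization.Away (algebraMap R A f) ≃ₐ[R] A₁) (e' : R' ⊗[R] A ≃ₐ[R'] A'),
        ∀ a : A, φ (algebraMap A' (Localization.Away (algebraMap R A' f)) (e' ((1 : R') ⊗ₜ[R] a))) =
          (1 : R') ⊗ₜ[R] e₁ (algebraMap A (Localization.Away (algebraMap R A f)) a) := by
  let S := Submonoid.powers (algebraMap R R' f)
  let L := Localization.Away (algebraMap R A' f)
  let l : A' →ₗ[R'] L := (IsScalarTower.toAlgHom R' A' L).toLinearMap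
  have hS : Algebra.algebraMapSubmonoid A' S = Submonoid.powers (algebraMap R A' f) := by
    rw [Algebra.algebraMapSubmonoid_powers, ← IsScalarTower.algebraMap_apply]
  have : IsLocalization (Algebra.algebraMapSubmonoid A' S) L := by
    rw [hS]
    infer_instance
  have : IsLocalizedModule S l := isLocalizedModule_iff_isLocalization.mpr this
  let eL : LocalizedModule S A' ≃ₗ[R'] L :=
    IsLocalizedModule.linearEquiv S (LocalizedModule.mkLinearMap S A') l
  let α : LocalizedModule S A' ≃ₗ[R'] R' ⊗[R] A₁ := eL.trans φ.toLinearEquiv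
  have hf : Function.Bijective fun x : A₁ => f • x := by
    simp only [Algebra.smul_def]
    exact IsUnit.isUnit_iff_mulLeft_bijective.mp h₁
  obtain ⟨M, hM, hT, hbij, hloc⟩ := H.exists_glue A' A₁ hf α
  have hM' : ∀ x : A' × A₁, x ∈ M ↔ φ (algebraMap A' L x.1) = (1 : R') ⊗ₜ[R] x.2 := fun x => by
    rw [hM]
    have : α (LocalizedModule.mkLinearMap S A' x.1) = φ (algebraMap A' L x.1) :=
      congrArg φ (IsLocalizedModule.linearEquiv_apply S (LocalizedModule.mkLinearMap S A') l x.1)
    rw [this]
  let A : Subalgebra R (A' × A₁) := Submodule.toSubalgebra M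
    ((hM' _).mpr (by simp [Algebra.TensorProduct.one_def]))
    (fun x y hx hy => (hM' _).mpr (by
      rw [Prod.fst_mul, Prod.snd_mul, map_mul, map_mul, (hM' x).mp hx, (hM' y).mp hy,
        Algebra.TensorProduct.tmul_mul_tmul, mul_one]))
  refine ⟨A, H.isGlueable_iff.mpr hT, ?_⟩
  let q : A →ₐ[R] A₁ := (AlgHom.snd R A' A₁).comp A.val
  let p : A →ₐ[R] A' := (AlgHom.fst R A' A₁).comp A.val
  let := q.toRingHom.toAlgebra
  have : IsScalarTower R A A₁ := IsScalarTower.of_algebraMap_eq fun r => (q.commutes r).symm
  have : IsLocalization.Away (algebraMap R A f) A₁ := by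
    have h : IsLocalizedModule (Submonoid.powers f) (IsScalarTower.toAlgHom R A A₁).toLinearMap := hloc
    have := isLocalizedModule_iff_isLocalization.mp h
    rwa [Algebra.algebraMapSubmonoid_powers] at this
  let e' : R' ⊗[R] A →ₐ[R'] A' :=
    Algebra.TensorProduct.lift (Algebra.ofId R' A') p fun _ _ => Commute.all _ _
  have he : Function.Bijective e' := by
    have h : e'.toLinearMap = (LinearMap.fst R A' A₁ ∘ₗ M.subtype).liftBaseChange R' := by
      refine LinearMap.ext fun z => ?_
      induction z using TensorProduct.induction_on with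
      | zero => exact (map_zero e').trans (map_zero ((LinearMap.fst R A' A₁ ∘ₗ M.subtype).liftBaseChange R')).symm
      | add x y hx hy =>
        exact (map_add e' x y).trans ((congrArg₂ (· + ·) hx hy).trans
          (map_add ((LinearMap.fst R A' A₁ ∘ₗ M.subtype).liftBaseChange R') x y).symm)
      | tmul r a =>
        refine Eq.trans ?_ (LinearMap.liftBaseChange_tmul R' (LinearMap.fst R A' A₁ ∘ₗ M.subtype) r a).symm
        exact (Algebra.smul_def r (p a)).symm
    exact (congrArg DFunLike.coe h) ▸ hbij
  refine ⟨(IsLocalization.algEquiv (Submonoid.powers (algebraMap R A f))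
    (Localization.Away (algebraMap R A f)) A₁).restrictScalars R, AlgEquiv.ofBijective e' he, fun a => ?_⟩
  rw [AlgEquiv.restrictScalars_apply, AlgEquiv.commutes]
  have : e' ((1 : R') ⊗ₜ[R] a) = (a : A' × A₁).1 := by simp [e', p]
  rw [AlgEquiv.ofBijective_apply, this]
  exact (hM' _).mp a.2

end Groth.Agent.GluePair

end
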