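import Mathlib
import Groth.Agent.GluePair.AlgCriteria

/-!
# Properties of ring maps detected by a glueing pair
-/

set_option autoImplicit false
set_option linter.unusedSectionVars false
universe u

open TensorProduct

noncomputable section

namespace Groth.Agent.GluePair

attribute [local instance] Algebra.TensorProduct.rightAlgebra

variable {R R' : Type u} [CommRing R] [CommRing R'] [Algebra R R'] {f : R}
  {A B : Type u} [CommRing A] [Algebra R A] [CommRing B] [Algebra R B] [Algebra A B]
  [IsScalarTower R A B]

/-- Both base changes of a map with a property stable under base change have it. -/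
lemma baseChanges_of_prop {P : ∀ {R S : Type u} [CommRing R] [CommRing S], (R →+* S) → Prop}
    (hP : RingHom.IsStableUnderBaseChange P) (hiso : RingHom.RespectsIso P) (h : P (algebraMap A B)) :
    P (Localization.awayMap (algebraMap A B) (algebraMap R A f)) ∧
      P (tensorMap R R' A B).toRingHom :=
  ⟨(prop_awayMap_iff A B _ hiso).mpr (hP.tensorProduct _ h),
    (prop_tensorMap_iff R R' A B hiso).mpr (hP.tensorProduct _ h)⟩

theorem surjective_algebraMap_iff (hq : EtGlue.QuotPowBijective R R' f) :
    Function.Surjective (algebraMap A B) ↔
      Function.Surjective (Localization.awayMap (algebraMap A B) (algebraMap R A f)) ∧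
        Function.Surjective (tensorMap R R' A B).toRingHom :=
  ⟨baseChanges_of_prop (P := fun f => Function.Surjective f) RingHom.surjective_isStableUnderBaseChange
      RingHom.surjective_respectsIso,
    fun ⟨h₁, h'⟩ => surjective_algebraMap_of_baseChanges (quotPowBijective_baseChange hq)
      ((prop_tensorMap_iff R R' A B (P := fun f => Function.Surjective f)
        RingHom.surjective_respectsIso).mp h')
      ((prop_awayMap_iff A B _ (P := fun f => Function.Surjective f)
        RingHom.surjective_respectsIso).mp h₁)⟩

theorem finite_algebraMap_iff (hq : EtGlue.QuotPowBijective R R' f) :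
    (algebraMap A B).Finite ↔
      (Localization.awayMap (algebraMap A B) (algebraMap R A f)).Finite ∧
        (tensorMap R R' A B).toRingHom.Finite :=
  ⟨baseChanges_of_prop RingHom.finite_isStableUnderBaseChange RingHom.finite_respectsIso,
    fun ⟨h₁, h'⟩ => RingHom.finite_algebraMap.mpr (finite_of_quot (quotPowBijective_baseChange hq)
      (RingHom.finite_algebraMap.mp ((prop_tensorMap_iff R R' A B RingHom.finite_respectsIso).mp h'))
      (finite_localizedModule_of_tensor (RingHom.finite_algebraMap.mp
        ((prop_awayMap_iff A B _ RingHom.finite_respectsIso).mp h₁))))⟩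

theorem Pair.flat_algebraMap_iff (H : Pair R' f) (hA : TInj R' f A) :
    (algebraMap A B).Flat ↔
      (Localization.awayMap (algebraMap A B) (algebraMap R A f)).Flat ∧
        (tensorMap R R' A B).toRingHom.Flat :=
  ⟨baseChanges_of_prop RingHom.Flat.isStableUnderBaseChange RingHom.Flat.respectsIso,
    fun ⟨h₁, h'⟩ => RingHom.flat_algebraMap_iff.mpr ((H.baseChange hA).flat
      (RingHom.flat_algebraMap_iff.mp ((prop_tensorMap_iff R R' A B RingHom.Flat.respectsIso).mp h'))
      (flat_localizedModule_of_tensor (RingHom.flat_algebraMap_iff.mp
        ((prop_awayMap_iff A B _ RingHom.Flat.respectsIso).mp h₁))))⟩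

theorem finiteType_algebraMap_iff (hq : EtGlue.QuotPowBijective R R' f) :
    (algebraMap A B).FiniteType ↔
      (Localization.awayMap (algebraMap A B) (algebraMap R A f)).FiniteType ∧
        (tensorMap R R' A B).toRingHom.FiniteType :=
  ⟨baseChanges_of_prop RingHom.finiteType_isStableUnderBaseChange RingHom.finiteType_respectsIso,
    fun ⟨h₁, h'⟩ => RingHom.finiteType_algebraMap.mpr (finiteType_of_baseChanges
      (quotPowBijective_baseChange hq)
      (RingHom.finiteType_algebraMap.mp
        ((prop_tensorMap_iff R R' A B RingHom.finiteType_respectsIso).mp h'))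
      (RingHom.finiteType_algebraMap.mp
        ((prop_awayMap_iff A B _ RingHom.finiteType_respectsIso).mp h₁)))⟩

theorem Pair.finitePresentation_of_flat (H : Pair R' f) (hflat : (algebraMap A B).Flat)
    (h₁ : (Localization.awayMap (algebraMap A B) (algebraMap R A f)).FinitePresentation)
    (h' : (tensorMap R R' A B).toRingHom.FinitePresentation) :
    (algebraMap A B).FinitePresentation := by
  have := RingHom.flat_algebraMap_iff.mp hflat
  exact RingHom.finitePresentation_algebraMap.mpr (finitePresentation_of_baseChanges
    (quotPowBijective_baseChange H.quot)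
    (RingHom.finitePresentation_algebraMap.mp
      ((prop_tensorMap_iff R R' A B RingHom.finitePresentation_respectsIso).mp h'))
    (RingHom.finitePresentation_algebraMap.mp
      ((prop_awayMap_iff A B _ RingHom.finitePresentation_respectsIso).mp h₁)))

theorem Pair.flat_finitePresentation_algebraMap_iff (H : Pair R' f) (hA : TInj R' f A) :
    ((algebraMap A B).Flat ∧ (algebraMap A B).FinitePresentation) ↔
      ((Localization.awayMap (algebraMap A B) (algebraMap R A f)).Flat ∧
          (Localization.awayMap (algebraMap A B) (algebraMap R A f)).FinitePresentation) ∧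
        ((tensorMap R R' A B).toRingHom.Flat ∧ (tensorMap R R' A B).toRingHom.FinitePresentation) := by
  constructor
  · rintro ⟨hf, hp⟩
    obtain ⟨a, b⟩ := (H.flat_algebraMap_iff hA).mp hf
    obtain ⟨c, d⟩ := baseChanges_of_prop (f := f) (R' := R') RingHom.finitePresentation_isStableUnderBaseChange
      RingHom.finitePresentation_respectsIso hp
    exact ⟨⟨a, c⟩, b, d⟩
  · rintro ⟨⟨a, c⟩, b, d⟩
    have hf := (H.flat_algebraMap_iff hA).mpr ⟨a, b⟩
    exact ⟨hf, H.finitePresentation_of_flat hf c d⟩

theorem Pair.etale_algebraMap_iff (H : Pair R' f) (hA : TInj R' f A) :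
    (algebraMap A B).Etale ↔
      (Localization.awayMap (algebraMap A B) (algebraMap R A f)).Etale ∧
        (tensorMap R R' A B).toRingHom.Etale := by
  refine ⟨baseChanges_of_prop RingHom.Etale.isStableUnderBaseChange RingHom.Etale.respectsIso, ?_⟩
  simp only [RingHom.Etale.iff_flat_and_formallyUnramified]
  rintro ⟨⟨a₁, u₁, p₁⟩, a', u', p'⟩
  have hf := (H.flat_algebraMap_iff hA).mpr ⟨a₁, a'⟩
  refine ⟨hf, RingHom.formallyUnramified_algebraMap.mpr ?_, H.finitePresentation_of_flat hf p₁ p'⟩
  exact subsingleton_kaehler_of_baseChanges (quotPowBijective_baseChange H.quot)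
    (RingHom.formallyUnramified_algebraMap.mp
      ((prop_tensorMap_iff R R' A B RingHom.FormallyUnramified.respectsIso).mp u'))
    (RingHom.formallyUnramified_algebraMap.mp
      ((prop_awayMap_iff A B _ RingHom.FormallyUnramified.respectsIso).mp u₁))

end Groth.Agent.GluePair

end
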