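import Mathlib
import Groth.Agent.GluePair.Glue
import Groth.Agent.ProjDim.Tor

/-!
# Vanishing of `Tor₁` for glueing pairs
-/

set_option autoImplicit false
set_option linter.unusedSectionVars false
universe u

open TensorProduct CategoryTheory

noncomputable section

namespace Groth.Agent.GluePair

/-- `Tor₁(M, N)` vanishes when one flat presentation of `N` stays injective after tensoring. -/
theorem subsingleton_tor_one {A : Type u} [CommRing A] (M N G : Type u) [AddCommGroup M] [Module A M]
    [AddCommGroup N] [Module A N] [AddCommGroup G] [Module A G] [Module.Flat A G] (h : G →ₗ[A] N)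
    (hh : Function.Surjective h)
    (H : Function.Injective ((LinearMap.ker h).subtype.lTensor M)) :
    Subsingleton (DRing.Tor A 1 M N) := by
  refine ModuleCat.subsingleton_of_isZero
    (ProjDim.isZero_tor_succ_of_syz (ModuleCat.of A N) 0 (ModuleCat.of A M) fun X hX => ?_)
  obtain rfl : X = ModuleCat.of A M := hX
  intro F _ _ _ g hg
  exact (ProjDim.snake g h hg hh).mpr H

variable {R R' : Type u} [CommRing R] [CommRing R'] [Algebra R R'] {f : R}

lemma Pair.lTensor_injective_of_torsion (H : Pair R' f) (T : Submodule R R)
    (hT : ∀ t : T, ∃ n : ℕ, f ^ n • t = 0) : Function.Injective (T.subtype.lTensor R') := by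
  rw [injective_iff_map_eq_zero]
  intro z hz
  obtain ⟨t, rfl⟩ := (bijective_mk_of_torsion H.quot hT).2 z
  obtain ⟨n, hn⟩ := hT t
  have h0 : (t : R) = 0 := H.tInj_self (t : R) n (by rw [← Submodule.coe_smul, hn]; rfl) hz
  rw [show t = 0 from Subtype.ext h0, map_zero]

/-- `Tor₁(R', C) = 0` for `f`-power torsion modules `C`. -/
theorem Pair.subsingleton_tor_of_torsion (H : Pair R' f) (C : Type u) [AddCommGroup C] [Module R C]
    (hC : ∀ c : C, ∃ n : ℕ, f ^ n • c = 0) : Subsingleton (DRing.Tor R 1 R' C) := by
  refine subsingleton_tor_one R' C (C →₀ R) (Finsupp.linearCombination R id)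
    (Finsupp.linearCombination_surjective _ Function.surjective_id) ?_
  refine H.lTensor_subtype_injective C _ fun x => ?_
  obtain ⟨n, hn⟩ := hC (Finsupp.linearCombination R id x)
  exact ⟨n, LinearMap.mem_ker.mpr (by rw [map_smul]; exact hn)⟩

end Groth.Agent.GluePair

end
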